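import Mathlib.RingTheory.Flat.FaithfullyFlat.Algebra
import Mathlib.RingTheory.Ideal.AssociatedPrime.Finiteness
import Mathlib.RingTheory.LocalRing.RingHom.Basic
import Mathlib.LinearAlgebra.TensorProduct.Pi
import Mathlib.RingTheory.TensorProduct.Quotient
import Mathlib.RingTheory.Ideal.Quotient.Basic

/-!
# Descent of principal ideals along flat local homomorphisms
-/

set_option autoImplicit false
set_option linter.style.haveILetI false

universe u

open scoped TensorProduct

namespace Groth.Agent.Div86.Descend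

variable {A : Type u} [CommRing A] (P : Ideal A) [P.IsPrime]

/-- The saturation of an ideal with respect to a prime. -/
def satur (I : Ideal A) : Ideal A where
  carrier := {r | ∃ t ∉ P, t * r ∈ I}
  zero_mem' := ⟨1, (Ideal.ne_top_iff_one P).1 (Ideal.IsPrime.ne_top inferInstance), by simp⟩
  add_mem' := by
    rintro x y ⟨t, ht, hx⟩ ⟨t', ht', hy⟩
    refine ⟨t * t', fun h => ((Ideal.IsPrime.mem_or_mem inferInstance h).elim ht ht'), ?_⟩
    rw [show t * t' * (x + y) = t' * (t * x) + t * (t' * y) by ring]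
    exact add_mem (I.mul_mem_left _ hx) (I.mul_mem_left _ hy)
  smul_mem' := by
    rintro c x ⟨t, ht, hx⟩
    exact ⟨t, ht, by rw [smul_eq_mul, mul_left_comm]; exact I.mul_mem_left _ hx⟩

lemma le_satur (I : Ideal A) : I ≤ satur P I := fun r hr =>
  ⟨1, (Ideal.ne_top_iff_one P).1 (Ideal.IsPrime.ne_top inferInstance), by simpa using hr⟩

variable {B : Type u} [CommRing B] [Algebra A B] [Module.Flat A B]

/-- An element of the small ring outside the prime cancels modulo a saturated ideal. -/
lemma mem_map_satur (I : Ideal A) {s : A} (hs : s ∉ P) {c : B}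
    (h : algebraMap A B s * c ∈ (satur P I).map (algebraMap A B)) : c ∈ (satur P I).map (algebraMap A B) := by
  let e := (Algebra.TensorProduct.quotIdealMapEquivTensorQuot B (satur P I))
  have hinj : Function.Injective (LinearMap.lsmul A (A ⧸ satur P I) s) := by
    refine (injective_iff_map_eq_zero _).2 fun z hz => ?_
    obtain ⟨r, rfl⟩ := Ideal.Quotient.mk_surjective z
    have hz' : s * r ∈ satur P I := Ideal.Quotient.eq_zero_iff_mem.1 hz
    obtain ⟨t, ht, h'⟩ := hz'
    refine Ideal.Quotient.eq_zero_iff_mem.2 ⟨t * s, fun h => ((Ideal.IsPrime.mem_or_mem inferInstance h).elim ht hs), ?_⟩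
    rwa [mul_assoc]
  have h2 := Module.Flat.lTensor_preserves_injective_linearMap (M := B) _ hinj
  rw [← Ideal.Quotient.eq_zero_iff_mem] at h ⊢
  refine e.injective ((h2 ?_).trans (map_zero e).symm)
  rw [map_zero]
  have h3 : LinearMap.lTensor B (LinearMap.lsmul A (A ⧸ satur P I) s) = LinearMap.lsmul A _ s :=
    TensorProduct.ext' fun b z => by simp [TensorProduct.tmul_smul]
  rw [h3, LinearMap.lsmul_apply, ← algebraMap_smul B s, ← map_smul, Algebra.smul_def,
    Ideal.Quotient.algebraMap_eq, ← map_mul, h, map_zero]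

omit P in
/-- Extension of finitely many ideals commutes with intersection along a flat map. -/
lemma mem_map_iInf {ι : Type u} [Fintype ι] [DecidableEq ι] (I : ι → Ideal A) {c : B}
    (h : ∀ i, c ∈ (I i).map (algebraMap A B)) : c ∈ (⨅ i, I i).map (algebraMap A B) := by
  let ψ : (A ⧸ ⨅ i, I i) →ₗ[A] ((i : ι) → A ⧸ I i) :=
    LinearMap.pi fun i => (Ideal.Quotient.factorₐ A (iInf_le I i)).toLinearMap
  have hψ : Function.Injective ψ := by
    refine (injective_iff_map_eq_zero _).2 fun z hz => ?_
    obtain ⟨r, rfl⟩ := Ideal.Quotient.mk_surjective z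
    exact Ideal.Quotient.eq_zero_iff_mem.2 ((Submodule.mem_iInf _).2 fun i =>
      Ideal.Quotient.eq_zero_iff_mem.1 (congrFun hz i))
  have h2 := Module.Flat.lTensor_preserves_injective_linearMap (M := B) ψ hψ
  let e := Algebra.TensorProduct.quotIdealMapEquivTensorQuot B (⨅ i, I i)
  rw [← Ideal.Quotient.eq_zero_iff_mem]
  refine e.injective ((h2 ((TensorProduct.piRight A A B fun i => A ⧸ I i).injective ?_)).trans (map_zero e).symm)
  rw [map_zero, map_zero]
  funext i
  have h4 := congrArg (Algebra.TensorProduct.quotIdealMapEquivTensorQuot B (I i)) (Ideal.Quotient.eq_zero_iff_mem.2 (h i))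
  rw [map_zero, Algebra.TensorProduct.quotIdealMapEquivTensorQuot_mk] at h4
  rw [Algebra.TensorProduct.quotIdealMapEquivTensorQuot_mk, LinearMap.lTensor_tmul,
    TensorProduct.piRight_apply, TensorProduct.piRightHom_tmul, Pi.zero_apply]
  exact h4

omit P in
/-- An element is divisible by a non-zero-divisor of the small ring if it is so at the associated primes. -/
lemma mem_span_of_ass [IsNoetherianRing A] (a : A) {e : B}
    (h : ∀ Q ∈ associatedPrimes A (A ⧸ Ideal.span {a}), ∃ t ∉ Q,
      algebraMap A B t * e ∈ Ideal.span {algebraMap A B a}) : e ∈ Ideal.span {algebraMap A B a} := by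
  classical
  haveI := fun Q : associatedPrimes A (A ⧸ Ideal.span {a}) => Q.2.isPrime
  haveI : Fintype (associatedPrimes A (A ⧸ Ideal.span {a})) := (associatedPrimes.finite A _).fintype
  have hI : (⨅ Q : associatedPrimes A (A ⧸ Ideal.span {a}), satur Q.1 (Ideal.span {a})) ≤ Ideal.span {a} := by
    intro r hr
    by_contra hr'
    have hz : Ideal.Quotient.mk (Ideal.span {a}) r ≠ 0 := fun hz => hr' (Ideal.Quotient.eq_zero_iff_mem.1 hz)
    obtain ⟨Q, hQ, hle⟩ := exists_le_isAssociatedPrime_of_isNoetherianRing A _ hz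
    obtain ⟨t, ht, htr⟩ := (Submodule.mem_iInf _).1 hr ⟨Q, hQ⟩
    refine ht (hle ?_)
    rw [Submodule.mem_colon_singleton, Submodule.mem_bot, Algebra.smul_def, Ideal.Quotient.algebraMap_eq, ← map_mul]
    exact Ideal.Quotient.eq_zero_iff_mem.2 htr
  have hmem := mem_map_iInf (fun Q : associatedPrimes A (A ⧸ Ideal.span {a}) => satur Q.1 (Ideal.span {a}))
    (c := e) fun Q => by
      obtain ⟨t, ht, hte⟩ := h Q.1 Q.2
      refine mem_map_satur Q.1 _ ht (Ideal.map_mono (le_satur Q.1 _) ?_)
      rwa [Ideal.map_span, Set.image_singleton]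
  have h5 := Ideal.map_mono hI hmem
  rwa [Ideal.map_span, Set.image_singleton] at h5

omit P in
/-- A regular element of the big local ring generating descended ideals in depth at most one descends. -/
theorem exists_descend [IsNoetherianRing A] [IsLocalRing A] [IsLocalRing B] [IsLocalHom (algebraMap A B)]
    {c : B} (hc : c ∈ nonZeroDivisors B)
    (h0 : ∀ Q ∈ associatedPrimes A A, ∃ s ∉ Q, algebraMap A B s ∈ Ideal.span {c})
    (h1 : ∀ a ∈ nonZeroDivisors A, ∀ Q ∈ associatedPrimes A (A ⧸ Ideal.span {a}),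
      ∃ g : A, (∃ t ∉ Q, algebraMap A B t * c ∈ Ideal.span {algebraMap A B g}) ∧
        ∃ t ∉ Q, algebraMap A B (t * g) ∈ Ideal.span {c}) :
    ∃ g ∈ nonZeroDivisors A, Ideal.span {algebraMap A B g} = Ideal.span {c} := by
  classical
  haveI : Module.FaithfullyFlat A B := Module.FaithfullyFlat.of_flat_of_isLocalHom
  -- a non-zero-divisor of the small ring in the ideal
  obtain ⟨a, hac, ha⟩ : ∃ a ∈ (Ideal.span {c}).comap (algebraMap A B), a ∈ nonZeroDivisors A := by
    by_contra hno
    push Not at hno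
    have hsub : (((Ideal.span {c}).comap (algebraMap A B) : Ideal A) : Set A) ⊆
        ⋃ Q ∈ (associatedPrimes.finite A A).toFinset, (id Q : Ideal A) := by
      intro r hr
      have h := hno r hr
      have hr' : r ∈ ⋃ Q ∈ associatedPrimes A A, (Q : Set A) := by
        rw [biUnion_associatedPrimes_eq_compl_nonZeroDivisors]
        exact h
      obtain ⟨Q, hQ, hrQ⟩ := Set.mem_iUnion₂.1 hr'
      exact Set.mem_iUnion₂.2 ⟨Q, Finset.mem_coe.2 ((Set.Finite.mem_toFinset _).2 hQ), hrQ⟩
    obtain ⟨Q, hQ, hle⟩ := (Ideal.subset_union_prime (f := id) ⊥ ⊥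
      (fun Q hQ _ _ => ((Set.Finite.mem_toFinset _).1 hQ).isPrime)).1 hsub
    obtain ⟨s, hs, hsc⟩ := h0 Q ((Set.Finite.mem_toFinset _).1 hQ)
    exact hs (hle hsc)
  obtain ⟨w, hw⟩ := Ideal.mem_span_singleton.1 (Ideal.mem_comap.1 hac)
  haveI := fun Q : associatedPrimes A (A ⧸ Ideal.span {a}) => Q.2.isPrime
  haveI : Fintype (associatedPrimes A (A ⧸ Ideal.span {a})) := (associatedPrimes.finite A _).fintype
  choose g hg hg' using fun Q : associatedPrimes A (A ⧸ Ideal.span {a}) => h1 a ha Q.1 Q.2
  let 𝔞 := ⨅ Q : associatedPrimes A (A ⧸ Ideal.span {a}), satur Q.1 (Ideal.span {g Q})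
  have hle : ∀ r ∈ 𝔞, algebraMap A B r ∈ Ideal.span {c} := by
    intro r hr
    have he : algebraMap A B r * w ∈ Ideal.span {algebraMap A B a} := by
      refine mem_span_of_ass a fun Q hQ => ?_
      obtain ⟨t, ht, htr⟩ := (Submodule.mem_iInf _).1 hr ⟨Q, hQ⟩
      obtain ⟨q, hq⟩ := Ideal.mem_span_singleton.1 htr
      obtain ⟨t', ht', ht'g⟩ := hg' ⟨Q, hQ⟩
      obtain ⟨b, hb⟩ := Ideal.mem_span_singleton.1 ht'g
      refine ⟨t' * t, fun h => (hQ.isPrime.mem_or_mem h).elim ht' ht,
        Ideal.mem_span_singleton.2 ⟨b * algebraMap A B q, ?_⟩⟩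
      rw [hw]
      have e1 : algebraMap A B (t' * t) * algebraMap A B r =
          algebraMap A B (t' * g ⟨Q, hQ⟩) * algebraMap A B q := by
        rw [← map_mul, ← map_mul]
        exact congrArg _ (by linear_combination t' * hq)
      linear_combination w * e1 + algebraMap A B q * w * hb
    obtain ⟨b, hb⟩ := Ideal.mem_span_singleton.1 he
    refine Ideal.mem_span_singleton.2 ⟨b, ?_⟩
    have hwnzd : w ∈ nonZeroDivisors B := by
      refine mem_nonZeroDivisors_iff_right.2 fun z hz => ?_
      have h2 : algebraMap A B a * z = 0 := by rw [hw]; linear_combination c * hz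
      have hinj : Function.Injective (LinearMap.lsmul A B a) := by
        have ha' : Function.Injective (LinearMap.lsmul A A a) := fun x y hxy =>
          (mul_cancel_left_mem_nonZeroDivisors ha).1 hxy
        have := Module.Flat.lTensor_preserves_injective_linearMap (M := B) _ ha'
        intro x y hxy
        refine (TensorProduct.rid A B).symm.injective (this ?_)
        simp only [TensorProduct.rid_symm_apply, LinearMap.lTensor_tmul, LinearMap.lsmul_apply,
          TensorProduct.tmul_smul]
        rw [TensorProduct.smul_tmul', TensorProduct.smul_tmul']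
        exact congrArg (· ⊗ₜ[A] (1 : A)) hxy
      exact hinj (show a • z = a • (0 : B) by rw [smul_zero, Algebra.smul_def, h2])
    refine (mul_cancel_left_mem_nonZeroDivisors hwnzd).1 ?_
    linear_combination hb + b * hw
  have hmem : c ∈ 𝔞.map (algebraMap A B) := by
    refine mem_map_iInf _ fun Q => ?_
    obtain ⟨t, ht, htc⟩ := hg Q
    refine mem_map_satur Q.1 _ ht (Ideal.map_mono (le_satur Q.1 _) ?_)
    rwa [Ideal.map_span, Set.image_singleton]
  obtain ⟨r, hr, hrc⟩ : ∃ r ∈ 𝔞, Ideal.span {algebraMap A B r} = Ideal.span {c} := by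
    by_contra hno
    push Not at hno
    have hle' : 𝔞.map (algebraMap A B) ≤ Ideal.span {c} * IsLocalRing.maximalIdeal B := by
      refine Ideal.map_le_iff_le_comap.2 fun r hr => ?_
      obtain ⟨u, hu⟩ := Ideal.mem_span_singleton.1 (hle r hr)
      rw [Ideal.mem_comap, hu]
      refine Ideal.mul_mem_mul (Ideal.mem_span_singleton_self c) fun huu => hno r hr ?_
      rw [hu, Ideal.span_singleton_mul_right_unit huu]
    obtain ⟨u, hu, hcu⟩ := Ideal.mem_span_singleton_mul.1 (hle' hmem)
    refine (IsLocalRing.mem_maximalIdeal _).1 hu ?_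
    rw [(mul_cancel_left_mem_nonZeroDivisors hc).1 (hcu.trans (mul_one c).symm)]
    exact isUnit_one
  refine ⟨r, mem_nonZeroDivisors_iff_right.2 fun z hz => ?_, hrc⟩
  obtain ⟨u, hu⟩ := Ideal.mem_span_singleton.1 (hrc.ge (Ideal.mem_span_singleton_self c))
  refine FaithfulSMul.algebraMap_injective A B ?_
  rw [map_zero]
  refine mem_nonZeroDivisors_iff_right.1 hc _ ?_
  rw [hu, ← mul_assoc, ← map_mul, hz, map_zero, zero_mul]

end Groth.Agent.Div86.Descend
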