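import Groth.Agent.Div86.Descend.Normal
import Groth.Agent.InvX.Pullback
import Mathlib.AlgebraicGeometry.Morphisms.QuasiCompact

/-!
# Functions on the fibre over a maximal point
-/

set_option autoImplicit false
set_option linter.style.haveILetI false
set_option backward.isDefEq.respectTransparency false
set_option backward.isDefEq.respectTransparency.types false

universe u

open CategoryTheory CategoryTheory.Limits AlgebraicGeometry TopologicalSpace IsLocalRing
open Groth.Agent.AModX

namespace Groth.Agent.Div86.Descend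

variable {X Y : Scheme.{u}} (f : X ⟶ Y)

/-- Restricting functions to a fibre commutes with restriction. -/
lemma fiberι_app_res (η : Y) {U V : X.Opens} (h : V ≤ U) (s : Γ(X, U)) :
    (f.fiberι η).app V (resR h s) = resR ((f.fiberι η).preimage_mono h) ((f.fiberι η).app U s) :=
  ConcreteCategory.congr_hom ((f.fiberι η).naturality (homOfLE h).op) s

variable {η : Y} [IsDomain (Y.presheaf.stalk η)] (hη : IsMaxPt η)
include hη

/-- The local rings of the fibre over a maximal point are those of the total space. -/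
lemma stalkMap_fiberι_injective (w : ↥(f.fiber η)) :
    Function.Injective ((f.fiberι η).stalkMap w).hom := by
  rw [RingHom.injective_iff_ker_eq_bot, FlatDvr.ker_stalkMap_fiberι]
  have key : ∀ z : Y, z = η → maximalIdeal (Y.presheaf.stalk z) = ⊥ := by
    rintro z rfl
    exact IsLocalRing.isField_iff_maximalIdeal_eq.1 (isField_of_isMaxPt hη)
  rw [key _ (FlatDvr.fiberι_apply_eq f w), Ideal.map_bot]

variable [IsLocallyNoetherian X] [IsLocallyNoetherian Y] [Flat f]

/-- A germ vanishing at the generizations over the maximal point vanishes. -/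
theorem eq_zero_of_fibre {x : X} [IsDomain (Y.presheaf.stalk (f x))] (hx : η ⤳ f x) (t : X.presheaf.stalk x)
    (h : ∀ (z : X) (hz : z ⤳ x), f z = η → (X.presheaf.stalkSpecializes hz).hom t = 0) : t = 0 := by
  obtain ⟨a, ha, hat⟩ := exists_notMem_mul_mem f hx t 0 fun z hz hzη => by
    rw [h z hz (hη _ hzη)]
    exact zero_mem _
  rw [Ideal.span_singleton_zero, Ideal.mem_bot] at hat
  have ha0 : a ≠ 0 := fun h0 => ha (by rw [h0]; exact zero_mem _)
  letI := (f.stalkMap x).hom.toAlgebra
  haveI : Module.Flat (Y.presheaf.stalk (f x)) (X.presheaf.stalk x) := Flat.stalkMap f x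
  exact (Module.Flat.isSMulRegular_of_isRegular (M := X.presheaf.stalk x)
    (isRegular_of_ne_zero ha0)).right_eq_zero_of_smul (by rw [Algebra.smul_def]; exact hat)

/-- Functions over the base points below a maximal point are determined on its fibre. -/
theorem eq_of_fibre {O : X.Opens} (hO : ∀ x ∈ O, η ⤳ f x) (hdom : ∀ x ∈ O, IsDomain (Y.presheaf.stalk (f x)))
    {s t : Γ(X, O)} (h : (f.fiberι η).app O s = (f.fiberι η).app O t) : s = t := by
  refine TopCat.Presheaf.section_ext X.sheaf O _ _ fun x hx => ?_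
  haveI := hdom x hx
  refine sub_eq_zero.1 ?_
  refine eq_zero_of_fibre f hη (hO x hx) _ fun z hz hzη => ?_
  rw [map_sub, sub_eq_zero]
  obtain ⟨w, rfl⟩ : z ∈ Set.range (f.fiberι η) := by rw [f.range_fiberι]; exact hzη
  refine stalkMap_fiberι_injective f hη w ?_
  show ((f.fiberι η).stalkMap w).hom ((X.presheaf.germ O x hx ≫ X.presheaf.stalkSpecializes hz).hom s) =
    ((f.fiberι η).stalkMap w).hom ((X.presheaf.germ O x hx ≫ X.presheaf.stalkSpecializes hz).hom t)
  rw [TopCat.Presheaf.germ_stalkSpecializes]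
  rw [Scheme.Hom.germ_stalkMap_apply, Scheme.Hom.germ_stalkMap_apply, h]

omit [IsLocallyNoetherian X] [IsLocallyNoetherian Y] [Flat f] in
/-- Functions on an affine piece of the fibre have denominators from the base. -/
theorem exists_denom {V : X.Opens} (hV : IsAffineOpen V) {W : Y.Opens} (hW : IsAffineOpen W) (hηW : η ∈ W)
    (hVW : V ≤ f ⁻¹ᵁ W) (r : Γ(f.fiber η, f.fiberι η ⁻¹ᵁ V)) :
    ∃ (c : Γ(X, V)) (d : Γ(Y, W)), Y.presheaf.germ W η hηW d ≠ 0 ∧
      (f.fiberι η).app V c = (f.fiberι η).app V (f.appLE W V hVW d) * r := by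
  classical
  let I : Ideal Γ(X, V) :=
    { carrier := {b | ∃ c, (f.fiberι η).app V b * r = (f.fiberι η).app V c}
      add_mem' := fun {b b'} ⟨c, hc⟩ ⟨c', hc'⟩ => ⟨c + c', by rw [map_add, map_add, add_mul, hc, hc']⟩
      zero_mem' := ⟨0, by rw [map_zero, zero_mul]⟩
      smul_mem' := fun a b ⟨c, hc⟩ => ⟨a * c, by rw [smul_eq_mul, map_mul, map_mul, mul_assoc, hc]⟩ }
  let S : Submonoid Γ(X, V) :=
    Submonoid.map (f.appLE W V hVW).hom.toMonoidHom
      (Submonoid.comap (Y.presheaf.germ W η hηW).hom.toMonoidHom (nonZeroDivisors (Y.presheaf.stalk η)))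
  suffices hIS : ¬ Disjoint (I : Set Γ(X, V)) S by
    obtain ⟨b, ⟨c, hc⟩, d, hd, rfl⟩ := Set.not_disjoint_iff.1 hIS
    exact ⟨c, d, nonZeroDivisors.ne_zero hd, hc.symm⟩
  intro hdis
  obtain ⟨P, hP, hIP, hPS⟩ := Ideal.exists_le_prime_disjoint I S hdis
  obtain ⟨z, hz, hzP⟩ := QCoh.exists_point hV ⟨P, hP⟩
  have hzI : (hV.primeIdealOf ⟨z, hz⟩).asIdeal = P := congrArg PrimeSpectrum.asIdeal hzP
  -- the point lies over `η`
  have hfz : f z = η := by
    refine hη _ ((AssPtX.primeIdealOf_le_iff hW (hVW hz) hηW).1 fun d hd => ?_)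
    by_contra hdη
    have hu : IsUnit (Y.presheaf.germ W η hηW d) := by
      by_contra hnu
      refine hdη ?_
      letI := QCoh.stalkAlg (X := Y) hηW
      haveI := QCoh.isLocalization_stalk' hW hηW
      rw [← IsLocalization.AtPrime.under_maximalIdeal (Y.presheaf.stalk η) (hW.primeIdealOf ⟨η, hηW⟩).asIdeal]
      exact hnu
    have hmem : f.appLE W V hVW d ∈ P := by
      rw [← hzI]
      letI := QCoh.stalkAlg (X := X) hz
      haveI := QCoh.isLocalization_stalk' hV hz
      rw [← IsLocalization.AtPrime.under_maximalIdeal (X.presheaf.stalk z) (hV.primeIdealOf ⟨z, hz⟩).asIdeal]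
      intro hu'
      have e : X.presheaf.germ V z hz (f.appLE W V hVW d) =
          (f.stalkMap z).hom (Y.presheaf.germ W (f z) (hVW hz) d) := by
        rw [Scheme.Hom.germ_stalkMap_apply, Scheme.Hom.appLE, ConcreteCategory.comp_apply]
        exact X.presheaf.germ_res_apply _ _ _ _
      change IsUnit (X.presheaf.germ V z hz (f.appLE W V hVW d)) at hu'
      rw [e] at hu'
      have h1 := isUnit_of_map_unit (f.stalkMap z).hom _ hu'
      letI := QCoh.stalkAlg (X := Y) (hVW hz)
      haveI := QCoh.isLocalization_stalk' hW (hVW hz)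
      rw [← IsLocalization.AtPrime.under_maximalIdeal (Y.presheaf.stalk (f z)) (hW.primeIdealOf ⟨f z, hVW hz⟩).asIdeal] at hd
      exact hd h1
    exact Set.disjoint_left.1 hPS hmem ⟨d, hu.mem_nonZeroDivisors, rfl⟩
  obtain ⟨w, rfl⟩ : z ∈ Set.range (f.fiberι η) := by rw [f.range_fiberι]; exact hfz
  -- a local expression of `r` as a fraction
  letI := QCoh.stalkAlg (X := X) hz
  haveI := QCoh.isLocalization_stalk' hV hz
  obtain ⟨t, ht⟩ := (f.fiberι η).stalkMap_surjective w ((f.fiber η).presheaf.germ ((f.fiberι η) ⁻¹ᵁ V) w hz r)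
  obtain ⟨⟨c₁, b₁⟩, hbc⟩ := IsLocalization.surj (hV.primeIdealOf ⟨(f.fiberι η) w, hz⟩).asIdeal.primeCompl t
  dsimp only at hbc
  have e1 : (f.fiber η).presheaf.germ ((f.fiberι η) ⁻¹ᵁ V) w hz ((f.fiberι η).app V b₁.1 * r) =
      (f.fiber η).presheaf.germ ((f.fiberι η) ⁻¹ᵁ V) w hz ((f.fiberι η).app V c₁) := by
    rw [map_mul, ← Scheme.Hom.germ_stalkMap_apply (f.fiberι η) V w hz, ← Scheme.Hom.germ_stalkMap_apply (f.fiberι η) V w hz, ← ht,
      ← map_mul]
    congr 1
    rw [mul_comm]
    exact hbc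
  obtain ⟨O, hwO, i, j, hO⟩ := TopCat.Presheaf.germ_eq (C := CommRingCat.{u}) (f.fiber η).presheaf w hz hz _ _ e1
  obtain ⟨O', hO', hOO'⟩ := (f.fiberι η).isEmbedding.isInducing.isOpen_iff.1 O.2
  obtain ⟨b, hbO', hzb⟩ := hV.exists_basicOpen_le (V := (⟨O', hO'⟩ : X.Opens) ⊓ V)
    ⟨(f.fiberι η) w, ⟨(Set.ext_iff.1 hOO' w).2 hwO, hz⟩⟩ hz
  set e := (f.fiberι η).app V b₁.1 * r - (f.fiberι η).app V c₁ with he
  have hres : e |_ ((f.fiber η).basicOpen ((f.fiberι η).app V b)) = 0 := by
    have hle : (f.fiber η).basicOpen ((f.fiberι η).app V b) ≤ O := by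
      rw [← Scheme.preimage_basicOpen]
      intro v hv
      exact (Set.ext_iff.1 hOO' v).1 (hbO' hv).1
    have h1 := congrArg ((f.fiber η).presheaf.map (homOfLE hle).op) hO
    rw [show (f.fiber η).presheaf.map i.op = (f.fiber η).presheaf.map (homOfLE i.le).op from rfl,
      show (f.fiber η).presheaf.map j.op = (f.fiber η).presheaf.map (homOfLE i.le).op from rfl,
      ← ConcreteCategory.comp_apply, ← ConcreteCategory.comp_apply, ← Functor.map_comp] at h1
    show (f.fiber η).presheaf.map (homOfLE ((f.fiber η).basicOpen_le _)).op e = 0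
    rw [he, map_sub, sub_eq_zero]
    exact h1
  haveI : QuasiCompact (Y.fromSpecResidueField η) :=
    (quasiCompact_iff _).2 fun U _ _ => (Set.subsingleton_of_subsingleton).isCompact
  haveI : QuasiCompact (f.fiberι η) := MorphismProperty.pullback_fst _ _ inferInstance
  obtain ⟨n, hn⟩ := exists_pow_mul_eq_zero_of_res_basicOpen_eq_zero_of_isCompact (f.fiber η)
    ((f.fiberι η).isCompact_preimage hV.isCompact) e ((f.fiberι η).app V b) hres
  have hmem : b ^ n * b₁.1 ∈ I := ⟨b ^ n * c₁, by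
    rw [he, mul_sub, sub_eq_zero] at hn
    rw [map_mul, map_mul, map_pow, mul_assoc]
    exact hn⟩
  rcases hP.mem_or_mem (hIP hmem) with h | h
  · rw [← hzI] at h
    have h2 := hP
    have hb' : b ∈ (hV.primeIdealOf ⟨(f.fiberι η) w, hz⟩).asIdeal := (hV.primeIdealOf ⟨(f.fiberι η) w, hz⟩).isPrime.mem_of_pow_mem n h
    rw [← IsLocalization.AtPrime.under_maximalIdeal (X.presheaf.stalk ((f.fiberι η) w)) (hV.primeIdealOf ⟨(f.fiberι η) w, hz⟩).asIdeal] at hb'
    exact hb' ((X.mem_basicOpen b ((f.fiberι η) w) hz).1 hzb)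
  · rw [← hzI] at h
    exact b₁.2 h

end Groth.Agent.Div86.Descend
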