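import Groth.Agent.Div86.Descend.Ratio

/-!
# Frames compatible with a trivialization on the generic fibre
-/

set_option autoImplicit false
set_option linter.style.haveILetI false
set_option backward.isDefEq.respectTransparency false
set_option backward.isDefEq.respectTransparency.types false

universe u

open CategoryTheory CategoryTheory.Limits AlgebraicGeometry TopologicalSpace IsLocalRing
open Groth.Agent.AModX Groth.Agent.InvX

namespace Groth.Agent.Div86.Descend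

/-- Being a frame is local. -/
theorem isFrame_of_locally {X : Scheme.{u}} {M : X.Modules} {U : X.Opens} {e : Γ(M, U)}
    (h : ∀ x ∈ U, ∃ (O : X.Opens) (hO : O ≤ U), x ∈ O ∧ IsFrame (res M hO e)) : IsFrame e := by
  classical
  choose O hO hxO hfr using fun x : U => h x.1 x.2
  intro V hV
  have hloc : ∀ (p : U) (a b : Γ(X, V)), a • res M hV e = b • res M hV e →
      resR (inf_le_left : V ⊓ O p ≤ V) a = resR (inf_le_left : V ⊓ O p ≤ V) b := by
    intro p a b hab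
    refine (hfr p).coord_unique (inf_le_right : V ⊓ O p ≤ O p) ?_
    have := congrArg (res M (inf_le_left : V ⊓ O p ≤ V)) hab
    simp only [res_smul, res_res] at this ⊢
    exact this
  refine ⟨fun a b hab => ?_, fun m => ?_⟩
  · exact eq_of_locally (M := Coh.structureModule X) (a : Γ(X, V)) b fun p hp =>
      ⟨V ⊓ O ⟨p, hV hp⟩, inf_le_left, ⟨hp, hxO ⟨p, hV hp⟩⟩, hloc ⟨p, hV hp⟩ a b hab⟩
  · choose r hr using fun p : U => (hfr p).exists_coord (inf_le_right : V ⊓ O p ≤ O p)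
      (res M (inf_le_left : V ⊓ O p ≤ V) m)
    obtain ⟨c, hc, -⟩ := existsUnique_glue (M := Coh.structureModule X) (V := V) (fun p : U => V ⊓ O p)
      (fun _ => inf_le_left) (fun p hp => ⟨⟨p, hV hp⟩, hp, hxO ⟨p, hV hp⟩⟩) (fun p => (r p : Γ(X, V ⊓ O p)))
      (fun p q => by
        let T := (V ⊓ O p) ⊓ (V ⊓ O q)
        show resR (inf_le_left : T ≤ V ⊓ O p) (r p) = resR (inf_le_right : T ≤ V ⊓ O q) (r q)
        refine (hfr p).coord_unique ((inf_le_left : T ≤ V ⊓ O p).trans inf_le_right) ?_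
        have h1 := congrArg (res M (inf_le_left : T ≤ V ⊓ O p)) (hr p)
        have h2 := congrArg (res M (inf_le_right : T ≤ V ⊓ O q)) (hr q)
        simp only [res_smul, res_res] at h1 h2 ⊢
        exact h1.symm.trans h2)
    refine ⟨(show Γ(X, V) from c), eq_of_locally _ _ fun p hp => ⟨V ⊓ O ⟨p, hV hp⟩, inf_le_left, ⟨hp, hxO ⟨p, hV hp⟩⟩, ?_⟩⟩
    have hc' : resR (inf_le_left : V ⊓ O ⟨p, hV hp⟩ ≤ V) (show Γ(X, V) from c) = r ⟨p, hV hp⟩ := hc ⟨p, hV hp⟩
    show res M _ ((show Γ(X, V) from c) • res M hV e) = _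
    rw [res_smul, hc', hr ⟨p, hV hp⟩]
    simp only [res_res]

variable {X Y : Scheme.{u}} [IsLocallyNoetherian X] [IsLocallyNoetherian Y] {f : X ⟶ Y} [Flat f] {η : Y}
  [IsDomain (Y.presheaf.stalk η)] {L : X.Modules}
  {σ : (Scheme.Modules.pullback (f.fiberι η)).obj L ≅ Coh.structureModule (f.fiber η)}
  {W : Y.Opens} {hηW : η ∈ W}

/-- Descent of the fraction of the trivialization, at every point of the total space. -/
theorem exists_ratio (hη : IsMaxPt η) (hY : Pi1.IsNormalScheme Y) (hW : IsAffineOpen W)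
    (hspec : ∀ y ∈ W, η ⤳ y)
    (hfib : ∀ y : Y, ringKrullDim (Y.presheaf.stalk y) = 1 → IsIntegral (f.fiber y))
    {κ : Type u} [Fintype κ] (k : κ → Chart σ W hηW)
    (hsurj : ∀ y ∈ W, ∃ i, ∃ x ∈ (k i).V, f x = y) {y : Y} (hy : y ∈ W) :
    ∃ (W' : Y.Opens) (_ : y ∈ W') (hle : W' ≤ W) (hη' : η ∈ W') (h : Γ(Y, W')) (d : Γ(Y, W)),
      Y.presheaf.germ W' η hη' h ≠ 0 ∧ Y.presheaf.germ W η hηW d ≠ 0 ∧
        ∀ (χ : Chart σ W hηW) (x : X) (hx : x ∈ χ.V) (hfx : f x ∈ W'),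
          Ideal.span {bg f x (hle hfx) d * X.presheaf.germ χ.V x hx χ.c} =
            Ideal.span {bg f x hfx h * bg f x (hle hfx) χ.d} := by
  classical
  haveI := fun y => (hY y).1
  obtain ⟨d, hd, hsol⟩ := exists_sol hη hY hW hspec hfib k hsurj
  obtain ⟨W', hyW', hle, hη', h, hh, hk⟩ := hsol y hy
  refine ⟨W', hyW', hle, hη', h, d, hh, hd, fun χ x hx hfx => ?_⟩
  let k' : Option κ → Chart σ W hηW := fun o => o.elim χ k
  obtain ⟨d', hd', hsol'⟩ := exists_sol hη hY hW hspec hfib k' (fun z hz => by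
    obtain ⟨i, h⟩ := hsurj z hz
    exact ⟨some i, h⟩)
  obtain ⟨W'', hyW'', hle', hη'', h', hh', hk'⟩ := hsol' (f x) (hle hfx)
  obtain ⟨i, x₀, hx₀, hfx₀⟩ := hsurj (f x) (hle hfx)
  have h₀ : f x₀ ∈ W' ⊓ W'' := by rw [hfx₀]; exact ⟨hfx, hyW''⟩
  have A := hk i x₀ hx₀ h₀.1
  have B : Ideal.span {bg f x₀ (hle' h₀.2) d' * X.presheaf.germ (k i).V x₀ hx₀ (k i).c} =
      Ideal.span {bg f x₀ h₀.2 h' * bg f x₀ (hle' h₀.2) (k i).d} := hk' (some i) x₀ hx₀ h₀.2
  -- the two fractions agree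
  let p : Γ(Y, W' ⊓ W'') := resR (inf_le_right : W' ⊓ W'' ≤ W'') h' * resR (inf_le_left.trans hle : W' ⊓ W'' ≤ W) d
  let q : Γ(Y, W' ⊓ W'') := resR (inf_le_left : W' ⊓ W'' ≤ W') h * resR (inf_le_left.trans hle : W' ⊓ W'' ≤ W) d'
  have hpq : ∀ (z : X) (hz : f z ∈ W' ⊓ W''),
      bg f z hz p = bg f z hz.2 h' * bg f z (hle hz.1) d ∧ bg f z hz q = bg f z hz.1 h * bg f z (hle hz.1) d' := by
    intro z hz
    constructor <;>
    · simp only [bg, p, q, map_mul, InvX.germ_resR']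
  have e₀ : Ideal.span {bg f x₀ h₀ p} = Ideal.span {bg f x₀ h₀ q} := by
    rw [(hpq x₀ h₀).1, (hpq x₀ h₀).2]
    refine span_cancel ((k i).num_mem hη hx₀ (hspec _ (hle h₀.1))) ?_
    have A' := span_mul_congr (bg f x₀ h₀.2 h') A
    have B' := span_mul_congr (bg f x₀ h₀.1 h) B
    rw [mul_assoc (bg f x₀ h₀.2 h'), mul_assoc (bg f x₀ h₀.1 h), A', B', mul_left_comm]
  have hxx : f x ∈ W' ⊓ W'' := ⟨hfx, hyW''⟩
  have e : Ideal.span {bg f x hxx p} = Ideal.span {bg f x hxx q} := by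
    have h1 : Ideal.span {Y.presheaf.germ (W' ⊓ W'') (f x₀) h₀ p} =
        Ideal.span {Y.presheaf.germ (W' ⊓ W'') (f x₀) h₀ q} := by
      refine map_stalkMap_injective f x₀ ?_
      rw [Ideal.map_span, Set.image_singleton, Ideal.map_span, Set.image_singleton]
      exact e₀
    have key : ∀ (z z' : Y) (hz : z ∈ W' ⊓ W'') (hz' : z' ∈ W' ⊓ W''), z = z' →
        Ideal.span {Y.presheaf.germ (W' ⊓ W'') z hz p} = Ideal.span {Y.presheaf.germ (W' ⊓ W'') z hz q} →
        Ideal.span {Y.presheaf.germ (W' ⊓ W'') z' hz' p} = Ideal.span {Y.presheaf.germ (W' ⊓ W'') z' hz' q} := by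
      rintro z z' hz hz' rfl he; exact he
    have h2 := congrArg (Ideal.map (f.stalkMap x).hom) (key _ (f x) h₀ hxx hfx₀ h1)
    rwa [Ideal.map_span, Set.image_singleton, Ideal.map_span, Set.image_singleton] at h2
  rw [(hpq x hxx).1, (hpq x hxx).2] at e
  have C : Ideal.span {bg f x (hle' hyW'') d' * X.presheaf.germ χ.V x hx χ.c} =
      Ideal.span {bg f x hyW'' h' * bg f x (hle' hyW'') χ.d} := hk' none x hx hyW''
  refine span_cancel (map_mem_nonZeroDivisors (germ_ne_zero (hle hfx) (hspec _ (hle hfx)) hd')) ?_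
  have C' := span_mul_congr (bg f x (hle hfx) d) C
  have e' := span_mul_congr (bg f x (hle hfx) χ.d) e
  calc Ideal.span {bg f x (hle hfx) d * X.presheaf.germ χ.V x hx χ.c * bg f x (hle hfx) d'}
      = Ideal.span {bg f x (hle hfx) d * (bg f x (hle' hyW'') d' * X.presheaf.germ χ.V x hx χ.c)} := by
        congr 2; ring
    _ = _ := C'
    _ = Ideal.span {bg f x (hle hfx) χ.d * (bg f x hyW'' h' * bg f x (hle hfx) d)} := by congr 2; ring
    _ = _ := e'
    _ = _ := by congr 2; ring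

/-- A frame with rational value along the trivialization. -/
theorem exists_goodFrame (hη : IsMaxPt η) (hY : Pi1.IsNormalScheme Y) (hL : PicF.IsInvertible L)
    (hW : IsAffineOpen W) (hspec : ∀ y ∈ W, η ⤳ y)
    (hfib : ∀ y : Y, ringKrullDim (Y.presheaf.stalk y) = 1 → IsIntegral (f.fiber y))
    {κ : Type u} [Fintype κ] (k : κ → Chart σ W hηW)
    (hsurj : ∀ y ∈ W, ∃ i, ∃ x ∈ (k i).V, f x = y) {y : Y} (hy : y ∈ W) :
    ∃ (W' : Y.Opens) (_ : y ∈ W') (_ : W' ≤ W) (hη' : η ∈ W') (h d : Γ(Y, W')) (e : Γ(L, f ⁻¹ᵁ W')),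
      Y.presheaf.germ W' η hη' h ≠ 0 ∧ Y.presheaf.germ W' η hη' d ≠ 0 ∧ IsFrame e ∧
        (f.fiberι η).app (f ⁻¹ᵁ W') (f.app W' h) * tval σ e = (f.fiberι η).app (f ⁻¹ᵁ W') (f.app W' d) := by
  classical
  have hdom : ∀ y : Y, IsDomain (Y.presheaf.stalk y) := fun y => (hY y).1
  haveI := fun y => hdom y
  obtain ⟨W', hyW', hle, hη', h, d, hh, hd, hrat⟩ := exists_ratio hη hY hW hspec hfib k hsurj hy
  let d' : Γ(Y, W') := resR hle d
  have hd' : Y.presheaf.germ W' η hη' d' ≠ 0 := by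
    show Y.presheaf.germ W' η hη' (resR hle d) ≠ 0
    rw [InvX.germ_resR']; exact hd
  -- local frames
  have hloc : ∀ x : (f ⁻¹ᵁ W' : X.Opens), ∃ (O : X.Opens) (hO : O ≤ f ⁻¹ᵁ W') (_ : x.1 ∈ O) (e : Γ(L, O)),
      IsFrame e ∧ (f.fiberι η).app O (f.appLE W' O hO h) * tval σ e = (f.fiberι η).app O (f.appLE W' O hO d') := by
    rintro ⟨x, hfx⟩
    obtain ⟨χ, hx⟩ := exists_chart (σ := σ) (hηW := hηW) hη hL hW (hle hfx)
    have hr := hrat χ x hx hfx
    obtain ⟨a, ha⟩ := Ideal.mem_span_singleton.1 (hr.le (Ideal.mem_span_singleton_self _))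
    obtain ⟨b, hb⟩ := Ideal.mem_span_singleton.1 (hr.ge (Ideal.mem_span_singleton_self _))
    have hden : bg f x hfx h * bg f x (hle hfx) χ.d ∈ nonZeroDivisors (X.presheaf.stalk x) :=
      mul_mem (map_mem_nonZeroDivisors (germ_ne_zero _ (hspec _ (hle hfx)) hh))
        (map_mem_nonZeroDivisors (germ_ne_zero _ (hspec _ (hle hfx)) χ.hd))
    have hab : a * b = 1 := (mul_cancel_left_mem_nonZeroDivisors hden).1 (by rw [← mul_assoc, ← ha, ← hb, mul_one])
    obtain ⟨O₁, h₁, a, rfl⟩ := X.presheaf.exists_germ_eq (x := x) a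
    obtain ⟨O₂, h₂, b, rfl⟩ := X.presheaf.exists_germ_eq (x := x) b
    let O : X.Opens := χ.V ⊓ f ⁻¹ᵁ W' ⊓ O₁ ⊓ O₂
    have hxO : x ∈ O := ⟨⟨⟨hx, hfx⟩, h₁⟩, h₂⟩
    have i₀ : O ≤ χ.V := fun z hz => hz.1.1.1
    have i₁ : O ≤ f ⁻¹ᵁ W' := fun z hz => hz.1.1.2
    have i₂ : O ≤ O₁ := fun z hz => hz.1.2
    have i₃ : O ≤ O₂ := fun z hz => hz.2
    have e1 : X.presheaf.germ O x hxO (f.appLE W O (i₀.trans χ.le) d * resR i₀ χ.c) = X.presheaf.germ O x hxO
        (f.appLE W' O i₁ h * f.appLE W O (i₀.trans χ.le) χ.d * resR i₂ a) := by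
      simp only [map_mul, germ_appLE, InvX.germ_resR']
      exact ha
    have e2 : X.presheaf.germ O x hxO (resR i₂ a * resR i₃ b) = X.presheaf.germ O x hxO 1 := by
      rw [map_mul, InvX.germ_resR', InvX.germ_resR', map_one]; exact hab
    obtain ⟨O', hxO', j, j', hO'⟩ := TopCat.Presheaf.germ_eq (C := CommRingCat.{u}) X.presheaf x hxO hxO _ _ e1
    obtain ⟨O'', hxO'', l, l', hO''⟩ := TopCat.Presheaf.germ_eq (C := CommRingCat.{u}) X.presheaf x hxO hxO _ _ e2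
    let T : X.Opens := O' ⊓ O''
    have hT : T ≤ O := inf_le_left.trans j.le
    have E1 := congrArg (resR (inf_le_left : T ≤ O')) (show resR j.le _ = resR j.le _ from hO')
    have E2 := congrArg (resR (inf_le_right : T ≤ O'')) (show resR l.le _ = resR l.le _ from hO'')
    rw [resR_resR, resR_resR] at E1 E2
    refine ⟨T, hT.trans i₁, ⟨hxO', hxO''⟩, resR (hT.trans i₂) a • res L (hT.trans i₀) χ.l,
      (χ.frame.res _).isUnit_smul (IsUnit.of_mul_eq_one (resR (hT.trans i₃) b) ?_), ?_⟩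
    · rw [map_mul, map_one, resR_resR, resR_resR] at E2
      exact E2
    have hle' : ∀ {W₀ : Y.Opens} (i : O ≤ f ⁻¹ᵁ W₀) (g : Γ(Y, W₀)),
        resR hT (f.appLE W₀ O i g) = f.appLE W₀ T (hT.trans i) g := fun i g =>
      ConcreteCategory.congr_hom (f.appLE_map i (homOfLE hT).op) g
    have E1s : resR hT (f.appLE W O (i₀.trans χ.le) d * resR i₀ χ.c) =
        resR hT (f.appLE W' O i₁ h * f.appLE W O (i₀.trans χ.le) χ.d * resR i₂ a) := E1
    simp only [map_mul, hle', resR_resR] at E1s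
    have hχ := congrArg (resR ((f.fiberι η).preimage_mono (hT.trans i₀))) χ.eq
    rw [map_mul, ← fiberι_app_res f η (hT.trans i₀), ← fiberι_app_res f η (hT.trans i₀), ← tval_res σ (hT.trans i₀)] at hχ
    have hχd : resR (hT.trans i₀) (f.appLE W χ.V χ.le χ.d) = f.appLE W T ((hT.trans i₀).trans χ.le) χ.d :=
      ConcreteCategory.congr_hom (f.appLE_map χ.le (homOfLE (hT.trans i₀)).op) χ.d
    have hdd : f.appLE W' T (hT.trans i₁) d' = f.appLE W T ((hT.trans i₁).trans (f.preimage_mono hle)) d :=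
      ConcreteCategory.congr_hom (f.map_appLE (hT.trans i₁) (homOfLE hle).op) d
    rw [hχd] at hχ
    rw [tval_smul, hdd]
    refine (isUnit_fiber_of_base hη χ.hd ((hT.trans i₀).trans χ.le)).mul_left_cancel ?_
    have E1' := congrArg (fun s => (f.fiberι η).app T s) E1s
    simp only [map_mul] at E1'
    linear_combination (-tval σ (res L (hT.trans i₀) χ.l)) * E1' +
      (f.fiberι η).app T (f.appLE W T ((hT.trans i₁).trans (f.preimage_mono hle)) d) * hχ
  choose O hO hxO e he hval using hloc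
  have hres : ∀ (x : (f ⁻¹ᵁ W' : X.Opens)) (T : X.Opens) (hT : T ≤ O x),
      (f.fiberι η).app T (f.appLE W' T (hT.trans (hO x)) h) * tval σ (res L hT (e x)) =
        (f.fiberι η).app T (f.appLE W' T (hT.trans (hO x)) d') := by
    intro x T hT
    have h1 := congrArg (resR ((f.fiberι η).preimage_mono hT)) (hval x)
    rw [map_mul, ← fiberι_app_res f η hT, ← fiberι_app_res f η hT, ← tval_res σ hT] at h1
    have hr : ∀ g : Γ(Y, W'), resR hT (f.appLE W' (O x) (hO x) g) = f.appLE W' T (hT.trans (hO x)) g := fun g =>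
      ConcreteCategory.congr_hom (f.appLE_map (hO x) (homOfLE hT).op) g
    rwa [hr, hr] at h1
  obtain ⟨E, hE, -⟩ := existsUnique_glue (M := L) (V := f ⁻¹ᵁ W') O hO (fun x hx => ⟨⟨x, hx⟩, hxO ⟨x, hx⟩⟩) e
    fun a b => by
      refine tval_injective σ hη hdom hL (O := O a ⊓ O b) (fun z hz => hspec _ (hle (hO a hz.1))) ?_
      exact (isUnit_fiber_of_base hη hh ((inf_le_left : O a ⊓ O b ≤ O a).trans (hO a))).mul_left_cancel
        ((hres a _ inf_le_left).trans (hres b _ inf_le_right).symm)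
  refine ⟨W', hyW', hle, hη', h, d', E, hh, hd',
    isFrame_of_locally fun x hx => ⟨O ⟨x, hx⟩, hO _, hxO ⟨x, hx⟩, by rw [hE]; exact he _⟩, ?_⟩
  refine eq_of_locally (M := Coh.structureModule (f.fiber η))
    ((f.fiberι η).app (f ⁻¹ᵁ W') (f.app W' h) * tval σ E : Γ(f.fiber η, f.fiberι η ⁻¹ᵁ f ⁻¹ᵁ W')) _ fun w hw => ?_
  refine ⟨f.fiberι η ⁻¹ᵁ O ⟨_, hw⟩, (f.fiberι η).preimage_mono (hO _), hxO ⟨_, hw⟩, ?_⟩
  show resR _ _ = resR _ _
  have ha : ∀ g : Γ(Y, W'), resR (hO ⟨_, hw⟩) (f.app W' g) = f.appLE W' (O ⟨_, hw⟩) (hO _) g := fun g => rfl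
  rw [map_mul, ← fiberι_app_res f η (hO ⟨_, hw⟩), ← fiberι_app_res f η (hO ⟨_, hw⟩), ← tval_res σ (hO ⟨_, hw⟩), hE, ha, ha]
  exact hval _

end Groth.Agent.Div86.Descend
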