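import Groth.Agent.Div86.Descend.GoodFrame
import Groth.Agent.IntTh85.LineGlue
import Mathlib.RingTheory.Ideal.MinimalPrime.Noetherian

/-!
# Descent of invertible modules trivial on the maximal fibres
-/

set_option autoImplicit false
set_option linter.style.haveILetI false
set_option backward.isDefEq.respectTransparency false
set_option backward.isDefEq.respectTransparency.types false

universe u

open CategoryTheory CategoryTheory.Limits AlgebraicGeometry TopologicalSpace IsLocalRing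
open Groth.Agent.AModX Groth.Agent.InvX

namespace Groth.Agent.Div86.Descend

variable {X Y : Scheme.{u}}

theorem exists_isMaxPt (y : Y) [IsDomain (Y.presheaf.stalk y)] : ∃ η, η ⤳ y ∧ IsMaxPt η := by
  obtain ⟨η, hη, h⟩ := exists_point_of_prime y (⊥ : Ideal (Y.presheaf.stalk y))
  exact ⟨η, hη, isMaxPt_of_bot hη h⟩

theorem eq_of_isMaxPt {y η η' : Y} [IsDomain (Y.presheaf.stalk y)] (hη : IsMaxPt η) (hη' : IsMaxPt η')
    (h : η ⤳ y) (h' : η' ⤳ y) : η = η' := by
  obtain ⟨z, hz, hb⟩ := exists_point_of_prime y (⊥ : Ideal (Y.presheaf.stalk y))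
  exact (hη z (specializes_of_comap_le hz h (hb.le.trans bot_le))).symm.trans
    (hη' z (specializes_of_comap_le hz h' (hb.le.trans bot_le)))

/-- Near a point whose local ring is a domain all points lie below one maximal point. -/
theorem exists_nbhd [IsLocallyNoetherian Y] (hY : Pi1.IsNormalScheme Y) (y : Y) {η : Y} (hη : IsMaxPt η)
    (hy : η ⤳ y) : ∃ W : Y.Opens, IsAffineOpen W ∧ y ∈ W ∧ ∀ z ∈ W, η ⤳ z := by
  classical
  obtain ⟨V, hV, hyV, -⟩ := exists_isAffineOpen_mem_and_subset (x := y) (U := ⊤) trivial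
  haveI : IsNoetherianRing Γ(Y, V) := IsLocallyNoetherian.component_noetherian ⟨V, hV⟩
  have hηV : η ∈ V := hy.mem_open V.2 hyV
  set q := (hV.primeIdealOf ⟨η, hηV⟩).asIdeal with hq
  set p := (hV.primeIdealOf ⟨y, hyV⟩).asIdeal with hp
  let s := (Ideal.finite_minimalPrimes_of_isNoetherianRing Γ(Y, V) ⊥).toFinset.filter fun m => m ≠ q
  have hs : ∀ m ∈ s, ∃ b ∈ m, b ∉ p := by
    intro m hm
    simp only [s, Finset.mem_filter, Set.Finite.mem_toFinset] at hm
    refine SetLike.not_le_iff_exists.1 fun hle => hm.2 ?_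
    haveI := hm.1.1.1
    obtain ⟨z, hz, hzq⟩ := QCoh.exists_point hV ⟨m, hm.1.1.1⟩
    have hzm : (hV.primeIdealOf ⟨z, hz⟩).asIdeal = m := congrArg PrimeSpectrum.asIdeal hzq
    have hzy : z ⤳ y := (AssPtX.primeIdealOf_le_iff hV hz hyV).1 (hzm.le.trans hle)
    obtain ⟨w, hw, hwm⟩ : ∃ w, w ⤳ z ∧ IsMaxPt w := by
      haveI := (hY z).1
      exact exists_isMaxPt z
    haveI := (hY y).1
    obtain rfl : w = η := eq_of_isMaxPt hwm hη (hw.trans hzy) hy
    have hqm : q ≤ m := ((AssPtX.primeIdealOf_le_iff hV hηV hz).2 hw).trans hzm.le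
    exact le_antisymm (hm.1.2 ⟨(hV.primeIdealOf ⟨w, hηV⟩).isPrime, bot_le⟩ hqm) hqm
  choose! b hbm hbp using hs
  have hB : ∏ m ∈ s, b m ∉ p := fun h => by
    obtain ⟨m, hm, hmp⟩ := ((hV.primeIdealOf ⟨y, hyV⟩).isPrime.prod_mem_iff).1 h
    exact hbp m hm hmp
  have hmem : ∀ (z : Y) (hz : z ∈ V) (g : Γ(Y, V)), z ∈ Y.basicOpen g ↔ g ∉ (hV.primeIdealOf ⟨z, hz⟩).asIdeal := by
    intro z hz g
    rw [Y.mem_basicOpen g z hz]
    letI := QCoh.stalkAlg (X := Y) hz
    haveI := QCoh.isLocalization_stalk' hV hz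
    exact (IsLocalization.AtPrime.isUnit_to_map_iff (Y.presheaf.stalk z) (hV.primeIdealOf ⟨z, hz⟩).asIdeal g)
  refine ⟨Y.basicOpen (∏ m ∈ s, b m), hV.basicOpen _, (hmem y hyV _).2 hB, fun z hz => ?_⟩
  have hzV : z ∈ V := Y.basicOpen_le _ hz
  obtain ⟨m, hm, hmz⟩ := Ideal.exists_minimalPrimes_le (J := (hV.primeIdealOf ⟨z, hzV⟩).asIdeal) (I := ⊥) bot_le
  refine (AssPtX.primeIdealOf_le_iff hV hηV hzV).1 (le_trans (le_of_eq ?_) hmz)
  by_contra hne
  have hms : m ∈ s := by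
    simp only [s, Finset.mem_filter, Set.Finite.mem_toFinset]
    exact ⟨hm, fun h => hne h.symm⟩
  exact (hmem z hzV _).1 hz (hmz (Ideal.mem_of_dvd _ (Finset.dvd_prod_of_mem b hms) (hbm m hms)))

variable [IsLocallyNoetherian X] [IsLocallyNoetherian Y] {f : X ⟶ Y} [Flat f] [Surjective f] {L : X.Modules}

omit [IsLocallyNoetherian X] [IsLocallyNoetherian Y] in
/-- Functions of the base are determined on the total space. -/
theorem app_injective (O : Y.Opens) : Function.Injective (f.app O) := by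
  intro s t h
  refine TopCat.Presheaf.section_ext Y.sheaf O _ _ fun y hy => ?_
  obtain ⟨x, rfl⟩ := f.surjective y
  letI := (f.stalkMap x).hom.toAlgebra
  haveI : Module.Flat (Y.presheaf.stalk (f x)) (X.presheaf.stalk x) := Flat.stalkMap f x
  haveI : IsLocalHom (algebraMap (Y.presheaf.stalk (f x)) (X.presheaf.stalk x)) :=
    inferInstanceAs (IsLocalHom (f.stalkMap x).hom)
  haveI : Module.FaithfullyFlat (Y.presheaf.stalk (f x)) (X.presheaf.stalk x) :=
    Module.FaithfullyFlat.of_flat_of_isLocalHom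
  refine FaithfulSMul.algebraMap_injective (Y.presheaf.stalk (f x)) (X.presheaf.stalk x) ?_
  show (f.stalkMap x).hom (Y.presheaf.germ O (f x) hy s) = (f.stalkMap x).hom (Y.presheaf.germ O (f x) hy t)
  rw [Scheme.Hom.germ_stalkMap_apply, Scheme.Hom.germ_stalkMap_apply, h]

omit [IsLocallyNoetherian X] [IsLocallyNoetherian Y] [Flat f] [Surjective f] in
lemma app_resR {O O' : Y.Opens} (h : O' ≤ O) (g : Γ(Y, O)) :
    f.app O' (resR h g) = resR (f.preimage_mono h) (f.app O g) :=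
  ConcreteCategory.congr_hom (f.naturality (homOfLE h).op) g

omit [IsLocallyNoetherian X] [IsLocallyNoetherian Y] in
/-- A function comes from the base as soon as it does so locally on the base. -/
theorem exists_base_of_locally {O : Y.Opens} (v : Γ(X, f ⁻¹ᵁ O))
    (h : ∀ z ∈ O, ∃ (O' : Y.Opens) (hle : O' ≤ O) (_ : z ∈ O') (u : Γ(Y, O')),
      f.app O' u = resR (f.preimage_mono hle) v) : ∃ u : Γ(Y, O), f.app O u = v := by
  choose T hT hzT u hu using fun z : O => h z.1 z.2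
  obtain ⟨w, hw, -⟩ := existsUnique_glue (M := Coh.structureModule Y) (V := O) T hT
    (fun z hz => ⟨⟨z, hz⟩, hzT ⟨z, hz⟩⟩) (fun z => (u z : Γ(Y, T z))) (fun a b => by
      show resR (inf_le_left : T a ⊓ T b ≤ T a) (u a) = resR (inf_le_right : T a ⊓ T b ≤ T b) (u b)
      apply app_injective (f := f)
      rw [app_resR, app_resR, hu, hu, resR_resR, resR_resR])
  refine ⟨(show Γ(Y, O) from w), ?_⟩
  refine eq_of_locally (M := Coh.structureModule X) (f.app O (show Γ(Y, O) from w) : Γ(X, f ⁻¹ᵁ O)) v fun x hx => ?_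
  refine ⟨f ⁻¹ᵁ T ⟨f x, hx⟩, f.preimage_mono (hT _), hzT ⟨f x, hx⟩, ?_⟩
  show resR _ _ = resR _ v
  rw [← app_resR (hT ⟨f x, hx⟩)]
  have hw' : resR (hT ⟨f x, hx⟩) (show Γ(Y, O) from w) = u ⟨f x, hx⟩ := hw ⟨f x, hx⟩
  rw [hw', hu]

/-- An open of the base with a frame compatible with the trivializations on the maximal fibres. -/
structure Piece (τ : ∀ η : Y, IsMaxPt η →
    ((Scheme.Modules.pullback (f.fiberι η)).obj L ≅ Coh.structureModule (f.fiber η))) where
  /-- the open -/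
  W : Y.Opens
  η : Y
  hη : IsMaxPt η
  hηW : η ∈ W
  spec : ∀ z ∈ W, η ⤳ z
  h : Γ(Y, W)
  d : Γ(Y, W)
  hh : Y.presheaf.germ W η hηW h ≠ 0
  hd : Y.presheaf.germ W η hηW d ≠ 0
  e : Γ(L, f ⁻¹ᵁ W)
  frame : IsFrame e
  val : (f.fiberι η).app (f ⁻¹ᵁ W) (f.app W h) * tval (τ η hη) e = (f.fiberι η).app (f ⁻¹ᵁ W) (f.app W d)

variable {τ : ∀ η : Y, IsMaxPt η →
  ((Scheme.Modules.pullback (f.fiberι η)).obj L ≅ Coh.structureModule (f.fiber η))}

theorem exists_piece (hf : QuasiCompact f ∨ IsOpenMap f) (hY : Pi1.IsNormalScheme Y)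
    (hfib : ∀ y : Y, ringKrullDim (Y.presheaf.stalk y) = 1 → IsIntegral (f.fiber y)) (hL : PicF.IsInvertible L)
    (y : Y) : ∃ P : Piece τ, y ∈ P.W := by
  classical
  haveI := fun y => (hY y).1
  obtain ⟨η, hηy, hη⟩ := exists_isMaxPt y
  obtain ⟨W, hW, hyW, hspec⟩ := exists_nbhd hY y hη hηy
  have hηW : η ∈ W := hηy.mem_open W.2 hyW
  choose χ hχ using fun x : (f ⁻¹ᵁ W : X.Opens) =>
    exists_chart (σ := τ η hη) (hηW := hηW) hη hL hW (x := x.1) x.2
  obtain ⟨t, ht⟩ : ∃ t : Finset (f ⁻¹ᵁ W : X.Opens), ∀ z ∈ W, ∃ i ∈ t, ∃ x ∈ (χ i).V, f x = z := by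
    rcases hf with h | h
    · obtain ⟨t, ht⟩ := (f.isCompact_preimage hW.isCompact).elim_finite_subcover
        (fun i => ((χ i).V : Set X)) (fun i => (χ i).V.2) (fun x hx => Set.mem_iUnion.2 ⟨⟨x, hx⟩, hχ ⟨x, hx⟩⟩)
      refine ⟨t, fun z hz => ?_⟩
      obtain ⟨x, rfl⟩ := f.surjective z
      obtain ⟨i, hi, hxi⟩ := Set.mem_iUnion₂.1 (ht hz)
      exact ⟨i, hi, x, hxi, rfl⟩
    · obtain ⟨t, ht⟩ := hW.isCompact.elim_finite_subcover (fun i => f '' ((χ i).V : Set X))
        (fun i => h _ (χ i).V.2) (fun z hz => by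
          obtain ⟨x, rfl⟩ := f.surjective z
          exact Set.mem_iUnion.2 ⟨⟨x, hz⟩, x, hχ ⟨x, hz⟩, rfl⟩)
      refine ⟨t, fun z hz => ?_⟩
      obtain ⟨i, hi, x, hxi, hx⟩ := Set.mem_iUnion₂.1 (ht hz)
      exact ⟨i, hi, x, hxi, hx⟩
  obtain ⟨W', hyW', hle, hη', h, d, e, hh, hd, he, hval⟩ := exists_goodFrame hη hY hL hW hspec hfib
    (κ := {i // i ∈ t}) (fun i => χ i.1) (fun z hz => by
      obtain ⟨i, hi, h⟩ := ht z hz
      exact ⟨⟨i, hi⟩, h⟩) hyW
  exact ⟨⟨W', η, hη, hη', fun z hz => hspec z (hle hz), h, d, hh, hd, e, he, hval⟩, hyW'⟩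

/-- Compatible frames differ by functions of the base. -/
theorem exists_transition (hY : Pi1.IsNormalScheme Y) (P Q : Piece τ) {O : Y.Opens} (hP : O ≤ P.W) (hQ : O ≤ Q.W) :
    ∃ u : Γ(Y, O), res L (f.preimage_mono hP) P.e = f.app O u • res L (f.preimage_mono hQ) Q.e := by
  classical
  haveI := fun y => (hY y).1
  obtain ⟨v, hv⟩ := Q.frame.exists_coord (f.preimage_mono hQ) (res L (f.preimage_mono hP) P.e)
  suffices hu : ∃ u : Γ(Y, O), f.app O u = v by
    obtain ⟨u, hu⟩ := hu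
    exact ⟨u, by rw [hu]; exact hv⟩
  refine exists_base_of_locally v fun z hz => ?_
  obtain ⟨W₁, η₁, hη₁, hηW₁, hs₁, h₁, d₁, hh₁, hd₁, e₁, he₁, hv₁⟩ := P
  obtain ⟨W₂, η₂, hη₂, hηW₂, hs₂, h₂, d₂, hh₂, hd₂, e₂, he₂, hv₂⟩ := Q
  obtain rfl : η₁ = η₂ := eq_of_isMaxPt hη₁ hη₂ (hs₁ z (hP hz)) (hs₂ z (hQ hz))
  obtain ⟨a, ha⟩ : ∃ a : Γ(Y, O), a = resR hP d₁ * resR hQ h₂ := ⟨_, rfl⟩
  obtain ⟨b, hb₀⟩ : ∃ b : Γ(Y, O), b = resR hP h₁ * resR hQ d₂ := ⟨_, rfl⟩
  have hab : f.app O b * v = f.app O a := by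
    refine eq_of_fibre f hη₁ (O := f ⁻¹ᵁ O) (fun x hx => hs₁ _ (hP hx)) (fun x _ => inferInstance) ?_
    have e₁' := congrArg (resR ((f.fiberι η₁).preimage_mono (f.preimage_mono hP))) hv₁
    have e₂' := congrArg (resR ((f.fiberι η₁).preimage_mono (f.preimage_mono hQ))) hv₂
    rw [map_mul, ← fiberι_app_res f η₁ (f.preimage_mono hP), ← fiberι_app_res f η₁ (f.preimage_mono hP),
      ← app_resR hP, ← app_resR hP, ← tval_res (τ η₁ hη₁) (f.preimage_mono hP), hv, tval_smul] at e₁'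
    rw [map_mul, ← fiberι_app_res f η₁ (f.preimage_mono hQ), ← fiberι_app_res f η₁ (f.preimage_mono hQ),
      ← app_resR hQ, ← app_resR hQ, ← tval_res (τ η₁ hη₁) (f.preimage_mono hQ)] at e₂'
    simp only [ha, hb₀, map_mul]
    linear_combination (-((f.fiberι η₁).app (f ⁻¹ᵁ O) (f.app O (resR hP h₁))) * ((f.fiberι η₁).app (f ⁻¹ᵁ O) v)) * e₂' +
      ((f.fiberι η₁).app (f ⁻¹ᵁ O) (f.app O (resR hQ h₂))) * e₁'
  have hb : ∀ (y : Y) (hy : y ∈ O), Y.presheaf.germ O y hy b ≠ 0 := fun y hy => by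
    simp only [hb₀, map_mul, InvX.germ_resR']
    exact mul_ne_zero (germ_ne_zero _ (hs₁ y (hP hy)) hh₁) (germ_ne_zero _ (hs₂ y (hQ hy)) hd₂)
  obtain ⟨x, rfl⟩ := f.surjective z
  have hx : bg f x hz a = bg f x hz b * X.presheaf.germ (f ⁻¹ᵁ O) x hz v := by
    simp only [bg, Scheme.Hom.germ_stalkMap_apply, ← map_mul, hab]
  obtain ⟨u, hu⟩ : Y.presheaf.germ O (f x) hz b ∣ Y.presheaf.germ O (f x) hz a := by
    rw [← Ideal.mem_span_singleton]
    have h : (Ideal.span {Y.presheaf.germ O (f x) hz a} ⊔ Ideal.span {Y.presheaf.germ O (f x) hz b}) =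
        Ideal.span {Y.presheaf.germ O (f x) hz b} := by
      refine map_stalkMap_injective f x ?_
      rw [Ideal.map_sup, Ideal.map_span, Set.image_singleton, Ideal.map_span, Set.image_singleton, sup_eq_right,
        Ideal.span_singleton_le_span_singleton]
      exact ⟨_, hx⟩
    rw [← h]
    exact Ideal.mem_sup_left (Ideal.mem_span_singleton_self _)
  obtain ⟨T, hT, u, rfl⟩ := Y.presheaf.exists_germ_eq (x := f x) u
  have e1 : Y.presheaf.germ (O ⊓ T) (f x) ⟨hz, hT⟩ (resR inf_le_left a) =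
      Y.presheaf.germ (O ⊓ T) (f x) ⟨hz, hT⟩ (resR inf_le_left b * resR inf_le_right u) := by
    rw [map_mul, InvX.germ_resR', InvX.germ_resR', InvX.germ_resR']
    exact hu
  obtain ⟨O', hxO', j, j', hO'⟩ := TopCat.Presheaf.germ_eq (C := CommRingCat.{u}) Y.presheaf (f x) _ _ _ _ e1
  have hle : O' ≤ O := j.le.trans inf_le_left
  refine ⟨O', hle, hxO', resR (j.le.trans inf_le_right) u, ?_⟩
  have hE : resR j.le (resR inf_le_left a) = resR j.le (resR inf_le_left b * resR inf_le_right u) := hO'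
  rw [map_mul, resR_resR, resR_resR, resR_resR] at hE
  refine TopCat.Presheaf.section_ext X.sheaf (f ⁻¹ᵁ O') _ _ fun x' hx' => ?_
  refine (mul_cancel_left_mem_nonZeroDivisors (map_mem_nonZeroDivisors (hb (f x') (hle hx')))).1 ?_
  have h1 := congrArg (bg f x' hx') hE
  have h2 := congrArg (X.presheaf.germ (f ⁻¹ᵁ O) x' (hle hx')) hab
  simp only [bg, map_mul, InvX.germ_resR', Scheme.Hom.germ_stalkMap_apply] at h1 h2 ⊢
  show _ * X.presheaf.germ (f ⁻¹ᵁ O') x' hx' _ = _ * X.presheaf.germ (f ⁻¹ᵁ O') x' hx' _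
  rw [app_resR]
  simp only [InvX.germ_resR']
  refine Eq.trans ?_ h2.symm
  exact h1.symm

omit [IsLocallyNoetherian X] [IsLocallyNoetherian Y] in
theorem transition_unique (Q : Piece τ) {O : Y.Opens} (hQ : O ≤ Q.W) {u u' : Γ(Y, O)}
    (h : f.app O u • res L (f.preimage_mono hQ) Q.e = f.app O u' • res L (f.preimage_mono hQ) Q.e) : u = u' :=
  app_injective O (Q.frame.coord_unique _ h)

/-- An invertible module trivial on the maximal fibres comes from the base. -/
theorem exists_descent (hf : QuasiCompact f ∨ IsOpenMap f) (hY : Pi1.IsNormalScheme Y)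
    (hfib : ∀ y : Y, ringKrullDim (Y.presheaf.stalk y) = 1 → IsIntegral (f.fiber y)) (hL : PicF.IsInvertible L)
    (htriv : ∀ η : Y, IsMaxPt η →
      Nonempty ((Scheme.Modules.pullback (f.fiberι η)).obj L ≅ Coh.structureModule (f.fiber η))) :
    ∃ M : Y.Modules, PicF.IsInvertible M ∧ Nonempty ((Scheme.Modules.pullback f).obj M ≅ L) := by
  classical
  let τ : ∀ η : Y, IsMaxPt η → ((Scheme.Modules.pullback (f.fiberι η)).obj L ≅ Coh.structureModule (f.fiber η)) :=
    fun η h => (htriv η h).some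
  choose P hP using fun y : Y => exists_piece (τ := τ) hf hY hfib hL y
  choose u hu using fun (i j : Y) (W : Y.Opens) (hi : W ≤ (P i).W) (hj : W ≤ (P j).W) =>
    exists_transition hY (P i) (P j) hi hj
  have hres : ∀ i j (W W' : Y.Opens) (hi : W ≤ (P i).W) (hj : W ≤ (P j).W) (h : W' ≤ W),
      resR h (u i j W hi hj) = u i j W' (h.trans hi) (h.trans hj) := by
    intro i j W W' hi hj h
    refine transition_unique (P j) (h.trans hj) ?_
    rw [← hu i j W' (h.trans hi) (h.trans hj)]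
    have h1 := congrArg (res L (f.preimage_mono h)) (hu i j W hi hj)
    simp only [res_smul, res_res] at h1
    rw [app_resR]
    exact h1.symm
  have hcoc : ∀ i j l (W : Y.Opens) (hi : W ≤ (P i).W) (hj : W ≤ (P j).W) (hl : W ≤ (P l).W),
      u i j W hi hj * u j l W hj hl = u i l W hi hl := by
    intro i j l W hi hj hl
    refine transition_unique (P l) hl ?_
    rw [← hu i l W hi hl, map_mul, mul_smul, ← hu j l W hj hl, ← hu i j W hi hj]
  have hone : ∀ i (W : Y.Opens) (hi : W ≤ (P i).W), u i i W hi hi = 1 := fun i W hi =>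
    transition_unique (P i) hi (by rw [← hu i i W hi hi, map_one, one_smul])
  have hunit : ∀ i j (W : Y.Opens) hi hj, IsUnit (u i j W hi hj) := fun i j W hi hj =>
    IsUnit.of_mul_eq_one (u j i W hj hi) (by rw [hcoc, hone])
  obtain ⟨M, m, hM, hm, hmu⟩ := IntTh85.LineGlue.exists_line (fun i : Y => (P i).W) (fun y => ⟨y, hP y⟩) u hunit
    hres hcoc
  refine ⟨M, hM, ?_⟩
  let N := (Scheme.Modules.pullback f).obj M
  let U : Y → X.Opens := fun i => f ⁻¹ᵁ (P i).W
  let en : ∀ i, Γ(N, U i) := fun i => InvX.pullElt f (m i)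
  have hen : ∀ i, IsFrame (en i) := fun i => InvX.isFrame_pullElt f (hm i)
  have hel : ∀ i, IsFrame (P i).e := fun i => (P i).frame
  have hcov : ∀ x : X, ∃ i, x ∈ U i := fun x => ⟨f x, hP (f x)⟩
  -- the transition of both families is the inverse image of `u`
  have hn : ∀ (a b : Y) (W : X.Opens) (ha : W ≤ U a) (hb : W ≤ U b),
      res N hb (en b) = resR (le_inf ha hb : W ≤ f ⁻¹ᵁ ((P a).W ⊓ (P b).W))
          (f.app _ (u b a ((P a).W ⊓ (P b).W) inf_le_right inf_le_left)) • res N ha (en a) ∧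
      res L hb (P b).e = resR (le_inf ha hb : W ≤ f ⁻¹ᵁ ((P a).W ⊓ (P b).W))
          (f.app _ (u b a ((P a).W ⊓ (P b).W) inf_le_right inf_le_left)) • res L ha (P a).e := by
    intro a b W ha hb
    constructor
    · have hpull : ∀ (i : Y) (T : Y.Opens) (hi : T ≤ (P i).W),
          InvX.pullElt f (res M hi (m i)) = res N (f.preimage_mono hi) (en i) := fun i T hi =>
        app_res ((Scheme.Modules.pullbackPushforwardAdjunction f).unit.app M) hi (m i)
      have hsm : ∀ (T : Y.Opens) (g : Γ(Y, T)) (s : Γ(M, T)),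
          InvX.pullElt f (g • s) = f.app T g • InvX.pullElt f s := fun T g s =>
        Scheme.Modules.Hom.app_smul ((Scheme.Modules.pullbackPushforwardAdjunction f).unit.app M) g s
      have h1 := congrArg (InvX.pullElt f) (hmu b a ((P a).W ⊓ (P b).W) inf_le_right inf_le_left)
      rw [hsm, hpull, hpull] at h1
      have h2 := congrArg (res N (le_inf ha hb : W ≤ f ⁻¹ᵁ ((P a).W ⊓ (P b).W))) h1
      simp only [res_smul] at h2
      exact (res_res (M := N) _ _ _).symm.trans (h2.trans (congrArg _ (res_res (M := N) _ _ _)))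
    · have h2 := congrArg (res L (le_inf ha hb : W ≤ f ⁻¹ᵁ ((P a).W ⊓ (P b).W)))
        (hu b a ((P a).W ⊓ (P b).W) inf_le_right inf_le_left)
      simp only [res_smul] at h2
      exact (res_res (M := L) _ _ _).symm.trans (h2.trans (congrArg _ (res_res (M := L) _ _ _)))
  have hc : ∀ (a b : Y) (W : X.Opens) (ha : W ≤ U a) (hb : W ≤ U b) (g : Γ(X, W)),
      res N hb (en b) = g • res N ha (en a) → res L hb (P b).e = g • res L ha (P a).e := fun a b W ha hb g hg => by
    rw [(hn a b W ha hb).2, (hen a).coord_unique ha (hg.symm.trans (hn a b W ha hb).1)]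
  have hc' : ∀ (a b : Y) (W : X.Opens) (ha : W ≤ U a) (hb : W ≤ U b) (g : Γ(X, W)),
      res L hb (P b).e = g • res L ha (P a).e → res N hb (en b) = g • res N ha (en a) := fun a b W ha hb g hg => by
    rw [(hn a b W ha hb).1, (hel a).coord_unique ha (hg.symm.trans (hn a b W ha hb).2)]
  refine ⟨⟨InvX.ofFrames (U := U) (e := en) (n := fun i => (P i).e) hcov hen hc,
    InvX.ofFrames (U := U) (e := fun i => (P i).e) (n := en) hcov hel hc', ?_, ?_⟩⟩
  · refine hom_ext_of_frames U hcov en hen fun a => ?_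
    show (InvX.ofFrames (U := U) (e := fun i => (P i).e) (n := en) hcov hel hc').app (U a)
      ((InvX.ofFrames (U := U) (e := en) (n := fun i => (P i).e) hcov hen hc).app (U a) (en a)) = en a
    rw [InvX.ofFrames_app, InvX.ofFrames_app]
  · refine hom_ext_of_frames U hcov (fun i => (P i).e) hel fun a => ?_
    show (InvX.ofFrames (U := U) (e := en) (n := fun i => (P i).e) hcov hen hc).app (U a)
      ((InvX.ofFrames (U := U) (e := fun i => (P i).e) (n := en) hcov hel hc').app (U a) (P a).e) = (P a).e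
    rw [InvX.ofFrames_app, InvX.ofFrames_app]

end Groth.Agent.Div86.Descend
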