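import Groth.Agent.Div86.Descend.StI
import Groth.Agent.VarGeom.Normal
import Groth.Agent.AssPtX.Basic
import Groth.Agent.AssLib.Push
import Groth.Agent.Alg6.AssDepth
import Mathlib.AlgebraicGeometry.Morphisms.Flat

/-!
# Descent of effective Cartier divisors along faithfully flat morphisms
-/

set_option autoImplicit false
set_option linter.style.haveILetI false
set_option backward.isDefEq.respectTransparency false
set_option backward.isDefEq.respectTransparency.types false

universe u

open CategoryTheory AlgebraicGeometry TopologicalSpace IsLocalRing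

namespace Groth.Agent.Div86.Descend

variable {X Y : Scheme.{u}} (f : X ⟶ Y)

/-- Pull back an element of a local ring of the base to a point over a generization. -/
noncomputable abbrev pb {x : X} {y : Y} (h : f x ⤳ y) : Y.presheaf.stalk y ⟶ X.presheaf.stalk x :=
  Y.presheaf.stalkSpecializes h ≫ f.stalkMap x

/-- The ideal sheaf descends to the local ring of the base at `y`. -/
def Loc (J : X.IdealSheafData) (y : Y) : Prop :=
  ∃ g ∈ nonZeroDivisors (Y.presheaf.stalk y),
    ∀ (x : X) (h : f x ⤳ y), stI J x = Ideal.span {(pb f h).hom g}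

/-- A prime of a local ring gives a generization. -/
theorem exists_point_of_prime (x : X) (P : Ideal (X.presheaf.stalk x)) [P.IsPrime] :
    ∃ (z : X) (h : z ⤳ x),
      (maximalIdeal (X.presheaf.stalk z)).comap (X.presheaf.stalkSpecializes h).hom = P := by
  obtain ⟨V, hV, hxV, -⟩ := exists_isAffineOpen_mem_and_subset (x := x) (U := ⊤) trivial
  letI := QCoh.stalkAlg (X := X) hxV
  haveI := QCoh.isLocalization_stalk' hV hxV
  obtain ⟨z, hz, hzq⟩ := QCoh.exists_point hV ⟨P.comap (algebraMap Γ(X, V) (X.presheaf.stalk x)), Ideal.comap_isPrime _ _⟩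
  have hq : (hV.primeIdealOf ⟨z, hz⟩).asIdeal = P.comap (algebraMap Γ(X, V) (X.presheaf.stalk x)) :=
    congrArg PrimeSpectrum.asIdeal hzq
  have hle : (hV.primeIdealOf ⟨z, hz⟩).asIdeal ≤ (hV.primeIdealOf ⟨x, hxV⟩).asIdeal := by
    rw [hq, ← IsLocalization.AtPrime.under_maximalIdeal (X.presheaf.stalk x) (hV.primeIdealOf ⟨x, hxV⟩).asIdeal]
    exact Ideal.comap_mono (le_maximalIdeal (Ideal.IsPrime.ne_top inferInstance))
  have h : z ⤳ x := (AssPtX.primeIdealOf_le_iff hV hz hxV).1 hle
  refine ⟨z, h, ?_⟩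
  haveI : ((maximalIdeal (X.presheaf.stalk z)).comap (X.presheaf.stalkSpecializes h).hom).IsPrime :=
    Ideal.comap_isPrime _ _
  have h1 : ((maximalIdeal (X.presheaf.stalk z)).comap (X.presheaf.stalkSpecializes h).hom).comap
      (algebraMap Γ(X, V) (X.presheaf.stalk x)) = P.comap (algebraMap Γ(X, V) (X.presheaf.stalk x)) := by
    rw [Ideal.comap_comap, ← hq]
    show (maximalIdeal (X.presheaf.stalk z)).comap (X.presheaf.germ V x hxV ≫ X.presheaf.stalkSpecializes h).hom = _
    rw [TopCat.Presheaf.germ_stalkSpecializes]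
    letI := QCoh.stalkAlg (X := X) hz
    haveI := QCoh.isLocalization_stalk' hV hz
    exact IsLocalization.AtPrime.under_maximalIdeal (X.presheaf.stalk z) (hV.primeIdealOf ⟨z, hz⟩).asIdeal
  rw [← IsLocalization.map_under (hV.primeIdealOf ⟨x, hxV⟩).asIdeal.primeCompl (X.presheaf.stalk x)
      ((maximalIdeal (X.presheaf.stalk z)).comap (X.presheaf.stalkSpecializes h).hom),
    ← IsLocalization.map_under (hV.primeIdealOf ⟨x, hxV⟩).asIdeal.primeCompl (X.presheaf.stalk x) P]
  exact congrArg _ h1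

theorem specializes_of_comap_le {y₁ y₂ y : Y} (h₁ : y₁ ⤳ y) (h₂ : y₂ ⤳ y)
    (h : (maximalIdeal (Y.presheaf.stalk y₁)).comap (Y.presheaf.stalkSpecializes h₁).hom ≤
      (maximalIdeal (Y.presheaf.stalk y₂)).comap (Y.presheaf.stalkSpecializes h₂).hom) : y₁ ⤳ y₂ := by
  obtain ⟨V, hV, hyV, -⟩ := exists_isAffineOpen_mem_and_subset (x := y) (U := ⊤) trivial
  have key : ∀ (z : Y) (hz : z ⤳ y) (hzV : z ∈ V),
      ((maximalIdeal (Y.presheaf.stalk z)).comap (Y.presheaf.stalkSpecializes hz).hom).comap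
        (Y.presheaf.germ V y hyV).hom = (hV.primeIdealOf ⟨z, hzV⟩).asIdeal := fun z hz hzV => by
    rw [Ideal.comap_comap]
    show (maximalIdeal (Y.presheaf.stalk z)).comap (Y.presheaf.germ V y hyV ≫ Y.presheaf.stalkSpecializes hz).hom = _
    rw [TopCat.Presheaf.germ_stalkSpecializes]
    letI := QCoh.stalkAlg (X := Y) hzV
    haveI := QCoh.isLocalization_stalk' hV hzV
    exact IsLocalization.AtPrime.under_maximalIdeal (Y.presheaf.stalk z) (hV.primeIdealOf ⟨z, hzV⟩).asIdeal
  refine (AssPtX.primeIdealOf_le_iff hV (h₁.mem_open V.2 hyV) (h₂.mem_open V.2 hyV)).1 ?_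
  rw [← key y₁ h₁ (h₁.mem_open V.2 hyV), ← key y₂ h₂ (h₂.mem_open V.2 hyV)]
  exact Ideal.comap_mono h

/-- Associated primes of a quotient by a regular element have depth one. -/
theorem depth_le_one_of_ass {A L : Type u} [CommRing A] [CommRing L] [Algebra A L] (S : Submonoid A)
    [IsLocalization S L] [IsNoetherianRing L] [IsLocalRing L] {a : A} (ha : a ∈ nonZeroDivisors A)
    {Q : Ideal A} (hQ : Q ∈ associatedPrimes A (A ⧸ Ideal.span {a})) [IsNoetherianRing A]
    (hm : (maximalIdeal L).comap (algebraMap A L) = Q) : LocCoh.depth L L ≤ 1 := by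
  obtain ⟨-, z, hz⟩ := Alg6.mem_ass_iff.1 hQ
  obtain ⟨z, rfl⟩ := Submodule.Quotient.mk_surjective _ z
  have hz' : ∀ t, t ∈ Q ↔ t * z ∈ Ideal.span {a} := fun t => by
    rw [hz, ← Submodule.Quotient.mk_smul, Submodule.Quotient.mk_eq_zero, smul_eq_mul]
  have haQ : algebraMap A L a ∈ maximalIdeal L := by
    rw [← Ideal.mem_comap, hm, hz']
    exact Ideal.mul_mem_right _ _ (Ideal.mem_span_singleton_self a)
  have hreg : IsSMulRegular L (algebraMap A L a) := fun x y h =>
    (mul_cancel_left_mem_nonZeroDivisors (IsLocalization.map_nonZeroDivisors_le S L ⟨a, ha, rfl⟩)).1 h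
  by_contra hlt
  have h2 : (2 : ℕ∞) ≤ LocCoh.depth L L := by
    have := Order.add_one_le_of_lt (not_le.1 hlt)
    rwa [one_add_one_eq_two] at this
  refine (Alg6.two_le_depth_iff haQ hreg).1 h2 (Alg6.mem_ass_iff.2
    ⟨(maximalIdeal.isMaximal L).isPrime, Submodule.Quotient.mk (algebraMap A L z), fun t => ?_⟩)
  rw [← Submodule.Quotient.mk_smul, Alg6.mem_pointwise_smul_top_iff]
  obtain ⟨t, s, rfl⟩ := IsLocalization.exists_mk'_eq S t
  have hu : IsUnit (algebraMap A L s) := IsLocalization.map_units L s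
  have hst : IsLocalization.mk' L t s * algebraMap A L s = algebraMap A L t := IsLocalization.mk'_spec L t s
  constructor
  · intro hmem
    have htQ : t ∈ Q := by
      rw [← hm, Ideal.mem_comap, ← hst]
      exact Ideal.mul_mem_right _ _ hmem
    obtain ⟨w, hw⟩ := Ideal.mem_span_singleton.1 ((hz' t).1 htQ)
    refine ⟨↑hu.unit⁻¹ * algebraMap A L w, ?_⟩
    refine hu.mul_left_cancel ?_
    have h3 : algebraMap A L t * algebraMap A L z = algebraMap A L a * algebraMap A L w := by
      rw [← map_mul, hw, map_mul]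
    simp only [smul_eq_mul]
    linear_combination (algebraMap A L a * algebraMap A L w) * hu.mul_val_inv - algebraMap A L z * hst - h3
  · rintro ⟨w, hw⟩
    obtain ⟨w, s', rfl⟩ := IsLocalization.exists_mk'_eq S w
    have hs' : IsLocalization.mk' L w s' * algebraMap A L s' = algebraMap A L w := IsLocalization.mk'_spec L w s'
    simp only [smul_eq_mul] at hw
    have h4 : algebraMap A L (s'.1 * t * z) = algebraMap A L (s.1 * a * w) := by
      rw [map_mul, map_mul, map_mul, map_mul, ← hst, ← hs']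
      linear_combination -algebraMap A L s.1 * algebraMap A L s'.1 * hw
    obtain ⟨e, he⟩ := (IsLocalization.eq_iff_exists S L).1 h4
    have h5 : e.1 * s'.1 * t ∈ Q := (hz' _).2 (Ideal.mem_span_singleton.2 ⟨e.1 * s.1 * w, by linear_combination he⟩)
    have h6 : algebraMap A L t ∈ maximalIdeal L := by
      have h7 : algebraMap A L (e.1 * s'.1 * t) ∈ maximalIdeal L := by rwa [← Ideal.mem_comap, hm]
      rw [map_mul, map_mul] at h7
      exact (Ideal.unit_mul_mem_iff_mem _ ((IsLocalization.map_units L e).mul (IsLocalization.map_units L s'))).1 h7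
    rw [← hst] at h6
    exact (Ideal.mul_unit_mem_iff_mem _ hu).1 h6

/-- Associated primes of the ring have depth zero, and their regular elements are units. -/
theorem depth_zero_of_ass {A L : Type u} [CommRing A] [CommRing L] [Algebra A L] (S : Submonoid A)
    [IsLocalization S L] [IsNoetherianRing L] [IsLocalRing L] [IsNoetherianRing A]
    {Q : Ideal A} (hQ : Q ∈ associatedPrimes A A)
    (hm : (maximalIdeal L).comap (algebraMap A L) = Q) :
    LocCoh.depth L L ≤ 1 ∧ ∀ g ∈ nonZeroDivisors L, IsUnit g := by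
  obtain ⟨-, z, hz⟩ := Alg6.mem_ass_iff.1 hQ
  have hz0 : algebraMap A L z ≠ 0 := fun h0 => by
    obtain ⟨s, hs⟩ := (IsLocalization.map_eq_zero_iff S L z).1 h0
    have hsQ : s.1 ∈ Q := (hz s.1).2 hs
    have : algebraMap A L s.1 ∈ maximalIdeal L := by rwa [← Ideal.mem_comap, hm]
    exact this (IsLocalization.map_units L s)
  have hann : ∀ t, t ∈ maximalIdeal L → t * algebraMap A L z = 0 := by
    intro t ht
    obtain ⟨t, s, rfl⟩ := IsLocalization.exists_mk'_eq S t
    have hst : IsLocalization.mk' L t s * algebraMap A L s = algebraMap A L t := IsLocalization.mk'_spec L t s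
    have htQ : t ∈ Q := by
      rw [← hm, Ideal.mem_comap, ← hst]
      exact Ideal.mul_mem_right _ _ ht
    refine (IsLocalization.map_units L s).mul_left_cancel ?_
    rw [mul_zero, ← mul_assoc, mul_comm (algebraMap A L s.1), hst, ← map_mul, ← smul_eq_mul (a := t), (hz t).1 htQ, map_zero]
  refine ⟨?_, fun g hg => ?_⟩
  · by_contra hlt
    refine (Alg6.one_le_depth_iff (R := L) (M := L)).1 (le_of_lt (not_le.1 hlt)) (Alg6.mem_ass_iff.2
      ⟨(maximalIdeal.isMaximal L).isPrime, algebraMap A L z, fun t => ⟨hann t, fun h => ?_⟩⟩)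
    by_contra ht
    exact hz0 ((IsLocalRing.notMem_maximalIdeal.1 ht).mul_right_eq_zero.1 h)
  · by_contra hu
    exact hz0 (mul_left_mem_nonZeroDivisors_eq_zero_iff hg |>.1 (hann g hu))

variable [IsLocallyNoetherian X] [IsLocallyNoetherian Y] [Flat f]

omit [IsLocallyNoetherian Y] [Flat f] [IsLocallyNoetherian X] in
/-- Divisibility at all points over generizations of a prime gives divisibility up to an element outside it. -/
theorem exists_notMem_mul_mem {x : X} {yQ : Y} (hQ : yQ ⤳ f x) (a b : X.presheaf.stalk x)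
    (h : ∀ (x' : X) (hx' : x' ⤳ x), f x' ⤳ yQ →
      (X.presheaf.stalkSpecializes hx').hom a ∈ Ideal.span {(X.presheaf.stalkSpecializes hx').hom b}) :
    ∃ t ∉ (maximalIdeal (Y.presheaf.stalk yQ)).comap (Y.presheaf.stalkSpecializes hQ).hom,
      (f.stalkMap x).hom t * a ∈ Ideal.span {b} := by
  classical
  set Q := (maximalIdeal (Y.presheaf.stalk yQ)).comap (Y.presheaf.stalkSpecializes hQ).hom with hQdef
  haveI : Q.IsPrime := Ideal.comap_isPrime _ _
  by_contra hno
  push Not at hno
  let K : Ideal (X.presheaf.stalk x) := Submodule.comap (LinearMap.mulRight (X.presheaf.stalk x) a) (Ideal.span {b})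
  obtain ⟨P, hP, hKP, hdis⟩ := Ideal.exists_le_prime_disjoint K (Q.primeCompl.map (f.stalkMap x).hom.toMonoidHom) (by
    rw [Set.disjoint_left]
    rintro _ hK ⟨t, ht, rfl⟩
    exact hno t ht hK)
  obtain ⟨x', hx', hcomap⟩ := exists_point_of_prime x P
  have hfx : f x' ⤳ yQ := by
    refine specializes_of_comap_le (hx'.map f.continuous) hQ fun r hr => ?_
    by_contra hrQ
    refine Set.disjoint_left.1 hdis ?_ ⟨r, hrQ, rfl⟩
    show (f.stalkMap x).hom r ∈ P
    rw [← hcomap, Ideal.mem_comap]
    rw [show (X.presheaf.stalkSpecializes hx').hom ((f.stalkMap x).hom r) =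
      (f.stalkMap x').hom ((Y.presheaf.stalkSpecializes (hx'.map f.continuous)).hom r) from
      (congrArg (fun φ : Y.presheaf.stalk (f x) ⟶ X.presheaf.stalk x' => φ.hom r)
        (Scheme.Hom.stalkSpecializes_stalkMap f x' x hx')).symm]
    exact fun hu => hr (isUnit_of_map_unit (f.stalkMap x').hom _ hu)
  obtain ⟨S, hS⟩ := VarGeom.exists_isLocalization_stalkSpecializes hx'
  letI := (X.presheaf.stalkSpecializes hx').hom.toAlgebra
  haveI : IsLocalization S (X.presheaf.stalk x') := hS
  have h1 := h x' hx' hfx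
  rw [show Ideal.span {(X.presheaf.stalkSpecializes hx').hom b} =
    (Ideal.span {b}).map (algebraMap (X.presheaf.stalk x) (X.presheaf.stalk x')) by
      rw [Ideal.map_span, Set.image_singleton]; rfl] at h1
  obtain ⟨u, hu, hua⟩ := (IsLocalization.algebraMap_mem_map_algebraMap_iff S (X.presheaf.stalk x') _ a).1 h1
  have huP : u ∈ P := hKP hua
  rw [← hcomap, Ideal.mem_comap] at huP
  exact huP (IsLocalization.map_units (X.presheaf.stalk x') (⟨u, hu⟩ : S))

variable {J : X.IdealSheafData} (hJ : BlowUp.IsEffCartierIdeal J)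
  (hloc : ∀ y : Y, LocCoh.depth (Y.presheaf.stalk y) (Y.presheaf.stalk y) ≤ 1 → Loc f J y)

include hJ hloc in
/-- Descent to the local ring at the image of a point, with control at the points of small depth. -/
theorem exists_gen_at (x : X) : ∃ g ∈ nonZeroDivisors (Y.presheaf.stalk (f x)),
    stI J x = Ideal.span {(f.stalkMap x).hom g} := by
  letI := (f.stalkMap x).hom.toAlgebra
  haveI : Module.Flat (Y.presheaf.stalk (f x)) (X.presheaf.stalk x) := Flat.stalkMap f x
  haveI : IsLocalHom (algebraMap (Y.presheaf.stalk (f x)) (X.presheaf.stalk x)) :=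
    inferInstanceAs (IsLocalHom (f.stalkMap x).hom)
  obtain ⟨c, hc, hJc⟩ := exists_stI_gen hJ x
  have key : ∀ (Q : Ideal (Y.presheaf.stalk (f x))) [Q.IsPrime],
      (∀ (yQ : Y) (hy : yQ ⤳ f x),
        (maximalIdeal (Y.presheaf.stalk yQ)).comap (Y.presheaf.stalkSpecializes hy).hom = Q →
        LocCoh.depth (Y.presheaf.stalk yQ) (Y.presheaf.stalk yQ) ≤ 1) →
      ∃ (g₀ : Y.presheaf.stalk (f x)),
        (∃ t ∉ Q, algebraMap _ (X.presheaf.stalk x) t * c ∈ Ideal.span {algebraMap _ (X.presheaf.stalk x) g₀}) ∧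
        (∃ t ∉ Q, algebraMap _ (X.presheaf.stalk x) (t * g₀) ∈ Ideal.span {c}) ∧
        ((∀ (yQ : Y) (hy : yQ ⤳ f x),
          (maximalIdeal (Y.presheaf.stalk yQ)).comap (Y.presheaf.stalkSpecializes hy).hom = Q →
          ∀ g ∈ nonZeroDivisors (Y.presheaf.stalk yQ), IsUnit g) → g₀ ∉ Q) := by
    intro Q _ hdepth
    obtain ⟨yQ, hy, hcomap⟩ := exists_point_of_prime (f x) Q
    obtain ⟨g₁, hg₁, hJ₁⟩ := hloc yQ (hdepth yQ hy hcomap)
    obtain ⟨S, hS⟩ := VarGeom.exists_isLocalization_stalkSpecializes hy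
    letI := (Y.presheaf.stalkSpecializes hy).hom.toAlgebra
    haveI : IsLocalization S (Y.presheaf.stalk yQ) := hS
    obtain ⟨⟨g₀, s⟩, hgs⟩ := IsLocalization.surj S g₁
    dsimp only at hgs
    have hgs' : g₁ * (Y.presheaf.stalkSpecializes hy).hom s.1 = (Y.presheaf.stalkSpecializes hy).hom g₀ := hgs
    have hsu : IsUnit ((Y.presheaf.stalkSpecializes hy).hom s.1) := IsLocalization.map_units (Y.presheaf.stalk yQ) s
    have hpt : ∀ (x' : X) (hx' : x' ⤳ x), f x' ⤳ yQ →
        Ideal.span {(X.presheaf.stalkSpecializes hx').hom ((f.stalkMap x).hom g₀)} =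
          Ideal.span {(X.presheaf.stalkSpecializes hx').hom c} := by
      intro x' hx' hfx
      have e1 : Ideal.span {(X.presheaf.stalkSpecializes hx').hom c} = stI J x' := by
        rw [stI_specializes J hx', hJc, Ideal.map_span, Set.image_singleton]
      have e2 : (pb f hfx).hom ((Y.presheaf.stalkSpecializes hy).hom g₀) =
          (X.presheaf.stalkSpecializes hx').hom ((f.stalkMap x).hom g₀) := by
        show (f.stalkMap x').hom ((Y.presheaf.stalkSpecializes hy ≫ Y.presheaf.stalkSpecializes hfx).hom g₀) = _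
        rw [TopCat.Presheaf.stalkSpecializes_comp]
        exact congrArg (fun φ : Y.presheaf.stalk (f x) ⟶ X.presheaf.stalk x' => φ.hom g₀)
          (Scheme.Hom.stalkSpecializes_stalkMap f x' x hx')
      rw [e1, hJ₁ x' hfx, ← e2, ← hgs', map_mul, Ideal.span_singleton_mul_right_unit (hsu.map _)]
    refine ⟨g₀, ?_, ?_, fun hunit => ?_⟩
    · rw [← hcomap]
      exact exists_notMem_mul_mem f hy c _ fun x' hx' hfx => (hpt x' hx' hfx).ge (Ideal.mem_span_singleton_self _)
    · rw [← hcomap]
      obtain ⟨t, ht, htg⟩ := exists_notMem_mul_mem f hy ((f.stalkMap x).hom g₀) c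
        fun x' hx' hfx => (hpt x' hx' hfx).le (Ideal.mem_span_singleton_self _)
      exact ⟨t, ht, by rw [map_mul]; exact htg⟩
    · have h3 := hunit yQ hy hcomap g₁ hg₁
      rw [← hcomap, Ideal.mem_comap]
      intro hmem
      rw [← hgs'] at hmem
      exact hmem (h3.mul hsu)
  obtain ⟨g, hg, hgc⟩ := exists_descend (A := Y.presheaf.stalk (f x)) (B := X.presheaf.stalk x) hc
    (fun Q hQ => by
      haveI := hQ.isPrime
      have hd : ∀ (yQ : Y) (hy : yQ ⤳ f x),
          (maximalIdeal (Y.presheaf.stalk yQ)).comap (Y.presheaf.stalkSpecializes hy).hom = Q →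
          LocCoh.depth (Y.presheaf.stalk yQ) (Y.presheaf.stalk yQ) ≤ 1 ∧
            ∀ g ∈ nonZeroDivisors (Y.presheaf.stalk yQ), IsUnit g := fun yQ hy hm => by
        obtain ⟨S, hS⟩ := VarGeom.exists_isLocalization_stalkSpecializes hy
        letI := (Y.presheaf.stalkSpecializes hy).hom.toAlgebra
        haveI : IsLocalization S (Y.presheaf.stalk yQ) := hS
        exact depth_zero_of_ass S hQ hm
      obtain ⟨g₀, -, ⟨t, ht, htg⟩, hu⟩ := key Q fun yQ hy hm => (hd yQ hy hm).1
      exact ⟨t * g₀, fun h => (hQ.isPrime.mem_or_mem h).elim ht (hu fun yQ hy hm => (hd yQ hy hm).2), htg⟩)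
    (fun a ha Q hQ => by
      haveI := hQ.isPrime
      obtain ⟨g₀, h1, h2, -⟩ := key Q fun yQ hy hm => by
        obtain ⟨S, hS⟩ := VarGeom.exists_isLocalization_stalkSpecializes hy
        letI := (Y.presheaf.stalkSpecializes hy).hom.toAlgebra
        haveI : IsLocalization S (Y.presheaf.stalk yQ) := hS
        exact depth_le_one_of_ass S ha hQ hm
      exact ⟨g₀, h1, h2⟩)
  exact ⟨g, hg, hJc.trans hgc.symm⟩

omit [IsLocallyNoetherian X] [IsLocallyNoetherian Y] in
/-- Extension along a flat morphism is injective on ideals of the local ring of the base. -/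
lemma map_stalkMap_injective (x : X) :
    Function.Injective (Ideal.map (f.stalkMap x).hom) := by
  letI := (f.stalkMap x).hom.toAlgebra
  haveI : Module.Flat (Y.presheaf.stalk (f x)) (X.presheaf.stalk x) := Flat.stalkMap f x
  haveI : IsLocalHom (algebraMap (Y.presheaf.stalk (f x)) (X.presheaf.stalk x)) :=
    inferInstanceAs (IsLocalHom (f.stalkMap x).hom)
  haveI : Module.FaithfullyFlat (Y.presheaf.stalk (f x)) (X.presheaf.stalk x) :=
    Module.FaithfullyFlat.of_flat_of_isLocalHom
  exact Function.LeftInverse.injective (g := Ideal.comap (algebraMap _ (X.presheaf.stalk x))) fun I =>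
    Ideal.comap_map_eq_self_of_faithfullyFlat I

include hloc in
/-- Two generators obtained at points of the same fibre span the same ideal. -/
theorem span_le_of_fibre {y : Y} {g g' : Y.presheaf.stalk y} (hg' : g' ∈ nonZeroDivisors (Y.presheaf.stalk y))
    (x x' : X) (hx : f x = y) (hx' : f x' = y)
    (hg : stI J x = Ideal.span {(pb f (specializes_of_eq hx)).hom g})
    (hg₂ : stI J x' = Ideal.span {(pb f (specializes_of_eq hx')).hom g'}) :
    g ∈ Ideal.span {g'} := by
  refine (Ideal.mem_span_singleton).2 ?_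
  have hmem := mem_span_of_ass (B := Y.presheaf.stalk y) g' (e := g) fun Q hQ => ?_
  · exact Ideal.mem_span_singleton.1 hmem
  haveI := hQ.isPrime
  obtain ⟨yQ, hy, hcomap⟩ := exists_point_of_prime y Q
  obtain ⟨S, hS⟩ := VarGeom.exists_isLocalization_stalkSpecializes hy
  letI := (Y.presheaf.stalkSpecializes hy).hom.toAlgebra
  haveI : IsLocalization S (Y.presheaf.stalk yQ) := hS
  obtain ⟨g₁, -, hJ₁⟩ := hloc yQ (depth_le_one_of_ass S hg' hQ hcomap)
  have key : ∀ (z : X) (hz : f z = y) (e : Y.presheaf.stalk y),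
      stI J z = Ideal.span {(pb f (specializes_of_eq hz)).hom e} →
      Ideal.span {(Y.presheaf.stalkSpecializes hy).hom e} = Ideal.span {g₁} := by
    intro z hz e he
    subst hz
    -- a point of `X` over `yQ` specializing to `z`
    obtain ⟨z', hz', rfl⟩ := Flat.generalizingMap f hy
    refine map_stalkMap_injective f z' ?_
    rw [Ideal.map_span, Set.image_singleton, Ideal.map_span, Set.image_singleton]
    have h2 : stI J z' = Ideal.span {(f.stalkMap z').hom g₁} := by
      rw [hJ₁ z' (specializes_refl _)]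
      simp [pb]
    rw [← h2, stI_specializes J hz', he, Ideal.map_span, Set.image_singleton]
    congr 2
    have h3 := congrArg (fun φ : Y.presheaf.stalk (f z) ⟶ X.presheaf.stalk z' => φ.hom e)
      (Scheme.Hom.stalkSpecializes_stalkMap f z' z hz')
    simpa [pb] using h3
  have h5 : (Y.presheaf.stalkSpecializes hy).hom g ∈
      (Ideal.span {g'}).map (algebraMap (Y.presheaf.stalk y) (Y.presheaf.stalk yQ)) := by
    rw [Ideal.map_span, Set.image_singleton]
    exact ((key x hx g hg).trans (key x' hx' g' hg₂).symm).le (Ideal.mem_span_singleton_self _)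
  obtain ⟨t, ht, htg⟩ := (IsLocalization.algebraMap_mem_map_algebraMap_iff S (Y.presheaf.stalk yQ) _ g).1 h5
  refine ⟨t, fun htQ => ?_, htg⟩
  rw [← hcomap, Ideal.mem_comap] at htQ
  exact htQ (IsLocalization.map_units (Y.presheaf.stalk yQ) (⟨t, ht⟩ : S))

omit [IsLocallyNoetherian X] [IsLocallyNoetherian Y] [Flat f] in
lemma isOpen_eq_span {U : X.Opens} (hJ : BlowUp.IsEffCartierIdeal J) (a : Γ(X, U)) :
    IsOpen {x : X | ∃ hx : x ∈ U, stI J x = Ideal.span {X.presheaf.germ U x hx a}} := by
  rw [isOpen_iff_forall_mem_open]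
  rintro x ⟨hx, he⟩
  obtain ⟨W, hxW, c, -, hWc⟩ := hJ x
  rw [stI_eq_span J W hxW hWc] at he
  obtain ⟨u, hu⟩ := Ideal.mem_span_singleton.1 (he.le (Ideal.mem_span_singleton_self _))
  obtain ⟨v, hv⟩ := Ideal.mem_span_singleton.1 (he.ge (Ideal.mem_span_singleton_self _))
  obtain ⟨O₁, h₁, u, rfl⟩ := X.presheaf.exists_germ_eq (x := x) u
  obtain ⟨O₂, h₂, v, rfl⟩ := X.presheaf.exists_germ_eq (x := x) v
  let O := U ⊓ W.1 ⊓ O₁ ⊓ O₂
  have hxO : x ∈ O := ⟨⟨⟨hx, hxW⟩, h₁⟩, h₂⟩
  have i₀ : O ≤ U := fun z hz => hz.1.1.1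
  have i₁ : O ≤ W.1 := fun z hz => hz.1.1.2
  have i₂ : O ≤ O₁ := fun z hz => hz.1.2
  have i₃ : O ≤ O₂ := fun z hz => hz.2
  have e1 : X.presheaf.germ O x hxO (AModX.resR i₁ c) =
      X.presheaf.germ O x hxO (AModX.resR i₀ a * AModX.resR i₂ u) := by
    rw [map_mul, InvX.germ_resR', InvX.germ_resR', InvX.germ_resR']
    exact hu
  have e2 : X.presheaf.germ O x hxO (AModX.resR i₀ a) =
      X.presheaf.germ O x hxO (AModX.resR i₁ c * AModX.resR i₃ v) := by
    rw [map_mul, InvX.germ_resR', InvX.germ_resR', InvX.germ_resR']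
    exact hv
  obtain ⟨O', hxO', j, j', hO'⟩ := TopCat.Presheaf.germ_eq (C := CommRingCat.{u}) X.presheaf x hxO hxO _ _ e1
  obtain ⟨O'', hxO'', k, k', hO''⟩ := TopCat.Presheaf.germ_eq (C := CommRingCat.{u}) X.presheaf x hxO hxO _ _ e2
  refine ⟨(O' ⊓ O'' : X.Opens), ?_, (O' ⊓ O'').2, ⟨hxO', hxO''⟩⟩
  rintro z ⟨hz', hz''⟩
  have hzO : z ∈ O := j.le hz'
  refine ⟨i₀ hzO, ?_⟩
  rw [stI_eq_span J W (i₁ hzO) hWc]
  have f1 := congrArg (X.presheaf.germ O' z hz') hO'
  have f2 := congrArg (X.presheaf.germ O'' z hz'') hO''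
  rw [show X.presheaf.map j.op = X.presheaf.map (homOfLE j.le).op from rfl,
    show X.presheaf.map j'.op = X.presheaf.map (homOfLE j.le).op from rfl] at f1
  rw [show X.presheaf.map k.op = X.presheaf.map (homOfLE k.le).op from rfl,
    show X.presheaf.map k'.op = X.presheaf.map (homOfLE k.le).op from rfl] at f2
  rw [X.presheaf.germ_res_apply, X.presheaf.germ_res_apply, map_mul, InvX.germ_resR', InvX.germ_resR',
    InvX.germ_resR'] at f1 f2
  refine le_antisymm ((Ideal.span_singleton_le_iff_mem _).2 ?_) ((Ideal.span_singleton_le_iff_mem _).2 ?_)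
  · exact Ideal.mem_span_singleton.2 ⟨_, f1⟩
  · exact Ideal.mem_span_singleton.2 ⟨_, f2⟩

include hJ hloc in
/-- Descent of an effective Cartier divisor given locally at the points of depth at most one. -/
theorem exists_descend_divisor [Surjective f] (hf : QuasiCompact f ∨ IsOpenMap f) :
    ∃ I : Y.IdealSheafData, BlowUp.IsEffCartierIdeal I ∧ I.comap f = J := by
  classical
  have hq : Topology.IsQuotientMap f := by
    rcases hf with h | h
    · exact Flat.isQuotientMap_of_surjective f
    · exact h.isQuotientMap f.continuous f.surjective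
  choose g hg hgJ using fun x => exists_gen_at f hJ hloc x
  choose sec hsec using f.surjective
  let G : ∀ y : Y, Ideal (Y.presheaf.stalk y) := fun y =>
    Ideal.span {(Y.presheaf.stalkSpecializes (specializes_of_eq (hsec y).symm)).hom (g (sec y))}
  -- `G` generates everywhere
  have hG : ∀ x : X, stI J x = (G (f x)).map (f.stalkMap x).hom := by
    intro x
    have hnz : ∀ (z : X) (y : Y) (h : f z = y), (Y.presheaf.stalkSpecializes (specializes_of_eq h.symm)).hom (g z) ∈
        nonZeroDivisors (Y.presheaf.stalk y) := by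
      rintro z _ rfl
      simpa using hg z
    have hst : ∀ (z : X) (y : Y) (h : f z = y), stI J z = Ideal.span
        {(pb f (specializes_of_eq h)).hom ((Y.presheaf.stalkSpecializes (specializes_of_eq h.symm)).hom (g z))} := by
      rintro z _ rfl
      simpa [pb] using hgJ z
    have h₀ : stI J x = Ideal.span {(pb f (specializes_of_eq (rfl : f x = f x))).hom (g x)} := by
      simpa [pb] using hgJ x
    have h1 := span_le_of_fibre f hloc (hnz (sec (f x)) (f x) (hsec _)) x (sec (f x)) rfl (hsec _) h₀ (hst (sec (f x)) (f x) (hsec _))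
    have h2 := span_le_of_fibre f hloc (hg x) (sec (f x)) x (hsec _) rfl (hst (sec (f x)) (f x) (hsec _)) h₀
    rw [hgJ x, Ideal.map_span, Set.image_singleton]
    refine le_antisymm ?_ ?_ <;> rw [Ideal.span_singleton_le_iff_mem, Ideal.mem_span_singleton]
    · exact map_dvd _ (Ideal.mem_span_singleton.1 h1)
    · exact map_dvd _ (Ideal.mem_span_singleton.1 h2)
  have hfam : IsLocPrincipalFamily G := by
    intro y
    obtain ⟨O, hyO, g₀, hg₀⟩ := Y.presheaf.exists_germ_eq (x := y)
      ((Y.presheaf.stalkSpecializes (specializes_of_eq (hsec y).symm)).hom (g (sec y)))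
    let Good : Set Y := {z | ∃ hz : z ∈ O, G z = Ideal.span {Y.presheaf.germ O z hz g₀}}
    have hgerm : ∀ (x : X) (hx : f x ∈ O),
        (Ideal.span {Y.presheaf.germ O (f x) hx g₀}).map (f.stalkMap x).hom =
          Ideal.span {X.presheaf.germ (f ⁻¹ᵁ O) x hx ((f.app O).hom g₀)} := fun x hx => by
      rw [Ideal.map_span, Set.image_singleton]
      congr 2
      exact Scheme.Hom.germ_stalkMap_apply f O x hx g₀
    have hopen : IsOpen Good := by
      rw [← hq.isOpen_preimage]
      convert isOpen_eq_span hJ ((f.app O).hom g₀) using 1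
      ext x
      constructor
      · rintro ⟨hx, he⟩
        exact ⟨hx, by rw [hG x, he, hgerm x hx]⟩
      · rintro ⟨hx, he⟩
        refine ⟨hx, map_stalkMap_injective f x ?_⟩
        rw [← hG x, he, hgerm x hx]
    have hy : y ∈ Good := ⟨hyO, by rw [hg₀]⟩
    obtain ⟨W, hW, hyW, hWG⟩ := exists_isAffineOpen_mem_and_subset (x := y) (U := ⟨Good, hopen⟩) hy
    have hWO : W ≤ O := fun z hz => (hWG hz).1
    have hspan : ∀ (z : Y) (hz : z ∈ W), G z = Ideal.span {Y.presheaf.germ W z hz (AModX.resR hWO g₀)} := fun z hz => by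
      rw [InvX.germ_resR']
      exact (hWG hz).2
    refine ⟨⟨W, hW⟩, hyW, AModX.resR hWO g₀, mem_nonZeroDivisors_of_germs fun z hz => ?_, hspan⟩
    refine mem_nonZeroDivisors_of_span_eq ?_ (hspan z hz)
    have : ∀ (u : X) (v : Y) (h : f u = v), (Y.presheaf.stalkSpecializes (specializes_of_eq h.symm)).hom (g u) ∈
        nonZeroDivisors (Y.presheaf.stalk v) := by
      rintro u _ rfl
      simpa using hg u
    exact this _ _ (hsec z)
  refine ⟨ofFamily hfam, isEffCartier_ofFamily hfam, eq_of_stI fun x => ?_⟩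
  rw [stI_comap, stI_ofFamily, hG x]

omit [IsLocallyNoetherian X] [Flat f] in
/-- A divisor that descends does so at every local ring of the base. -/
theorem loc_of_comap {I : Y.IdealSheafData} (hI : BlowUp.IsEffCartierIdeal I) (h : I.comap f = J) (y : Y) :
    Loc f J y := by
  obtain ⟨g, hg, hgI⟩ := exists_stI_gen hI y
  refine ⟨g, hg, fun x hx => ?_⟩
  rw [← h, stI_comap, stI_specializes I hx, hgI, Ideal.map_span, Set.image_singleton, Ideal.map_span,
    Set.image_singleton]
  rfl

end Groth.Agent.Div86.Descend
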