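import Groth.Agent.Div86.Descend.Normal

/-!
# Descent of divisors when the fibres have no embedded points
-/

set_option autoImplicit false
set_option linter.style.haveILetI false
set_option backward.isDefEq.respectTransparency false
set_option backward.isDefEq.respectTransparency.types false

universe u

open CategoryTheory CategoryTheory.Limits AlgebraicGeometry TopologicalSpace IsLocalRing Pointwise

namespace Groth.Agent.Div86.Descend

variable {X Y : Scheme.{u}} [IsLocallyNoetherian X]

/-- Principal ideals with regular generators are compared at points of depth at most one. -/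
theorem span_eq_of_depth {x : X} {c d : X.presheaf.stalk x} (hc : c ∈ nonZeroDivisors (X.presheaf.stalk x))
    (hd : d ∈ nonZeroDivisors (X.presheaf.stalk x))
    (h : ∀ (z : X) (hz : z ⤳ x), LocCoh.depth (X.presheaf.stalk z) (X.presheaf.stalk z) ≤ 1 →
      Ideal.span {(X.presheaf.stalkSpecializes hz).hom c} = Ideal.span {(X.presheaf.stalkSpecializes hz).hom d}) :
    Ideal.span {c} = Ideal.span {d} := by
  have key : ∀ a b : X.presheaf.stalk x, b ∈ nonZeroDivisors (X.presheaf.stalk x) →
      (∀ (z : X) (hz : z ⤳ x), LocCoh.depth (X.presheaf.stalk z) (X.presheaf.stalk z) ≤ 1 →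
        (X.presheaf.stalkSpecializes hz).hom a ∈ Ideal.span {(X.presheaf.stalkSpecializes hz).hom b}) →
      a ∈ Ideal.span {b} := by
    intro a b hb hab
    refine mem_span_of_ass (B := X.presheaf.stalk x) b (e := a) fun P hP => ?_
    haveI := hP.isPrime
    obtain ⟨z, hz, hcomap⟩ := exists_point_of_prime x P
    obtain ⟨S, hS⟩ := VarGeom.exists_isLocalization_stalkSpecializes hz
    letI := (X.presheaf.stalkSpecializes hz).hom.toAlgebra
    haveI : IsLocalization S (X.presheaf.stalk z) := hS
    have h1 := hab z hz (depth_le_one_of_ass S hb hP hcomap)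
    rw [show Ideal.span {(X.presheaf.stalkSpecializes hz).hom b} =
      (Ideal.span {b}).map (algebraMap (X.presheaf.stalk x) (X.presheaf.stalk z)) by
        rw [Ideal.map_span, Set.image_singleton]; rfl] at h1
    obtain ⟨t, ht, hta⟩ := (IsLocalization.algebraMap_mem_map_algebraMap_iff S (X.presheaf.stalk z) _ a).1 h1
    refine ⟨t, fun htP => ?_, hta⟩
    rw [← hcomap, Ideal.mem_comap] at htP
    exact htP (IsLocalization.map_units (X.presheaf.stalk z) (⟨t, ht⟩ : S))
  exact le_antisymm
    ((Ideal.span_singleton_le_iff_mem _).2 (key c d hd fun z hz h' => (h z hz h').le (Ideal.mem_span_singleton_self _)))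
    ((Ideal.span_singleton_le_iff_mem _).2 (key d c hc fun z hz h' => (h z hz h').ge (Ideal.mem_span_singleton_self _)))

variable (f : X ⟶ Y)

/-- The point of the fibre over a point of depth one is associated. -/
theorem isAssociated_fibre {y : Y}
    {π : Y.presheaf.stalk y} (hπ : maximalIdeal (Y.presheaf.stalk y) = Ideal.span {π}) (w : ↥(f.fiber y))
    (hnzd : (pb f (specializes_of_eq (FlatDvr.fiberι_apply_eq f w))).hom π ∈
      nonZeroDivisors (X.presheaf.stalk (f.fiberι y w)))
    (hdepth : LocCoh.depth (X.presheaf.stalk (f.fiberι y w)) (X.presheaf.stalk (f.fiberι y w)) ≤ 1) :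
    IsAssociatedPrime (maximalIdeal ((f.fiber y).presheaf.stalk w)) ((f.fiber y).presheaf.stalk w) := by
  obtain ⟨p, hp⟩ : ∃ p, p = (pb f (specializes_of_eq (FlatDvr.fiberι_apply_eq f w))).hom π := ⟨_, rfl⟩
  rw [← hp] at hnzd
  have key : ∀ (z : Y) (h : z ⤳ y) (_ : z = y),
      (maximalIdeal (Y.presheaf.stalk z)) = (Ideal.span {(Y.presheaf.stalkSpecializes h).hom π}) := by
    rintro z h rfl
    simpa using hπ
  have hker : RingHom.ker ((f.fiberι y).stalkMap w).hom = Ideal.span {p} := by
    rw [FlatDvr.ker_stalkMap_fiberι, key _ (specializes_of_eq (FlatDvr.fiberι_apply_eq f w)) (FlatDvr.fiberι_apply_eq f w),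
      Ideal.map_span, Set.image_singleton, hp]
    rfl
  have hpm : p ∈ maximalIdeal (X.presheaf.stalk (f.fiberι y w)) := fun hu => by
    have h1 : ((f.fiberι y).stalkMap w).hom p = 0 := RingHom.mem_ker.1 (hker.ge (Ideal.mem_span_singleton_self p))
    exact not_isUnit_zero (h1 ▸ hu.map ((f.fiberι y).stalkMap w).hom)
  have hreg : IsSMulRegular (X.presheaf.stalk (f.fiberι y w)) p := fun a b h =>
    (mul_cancel_left_mem_nonZeroDivisors hnzd).1 h
  have hass := fun h => (not_le.2 (lt_of_lt_of_le (by norm_num : (1 : ℕ∞) < 2) ((Alg6.two_le_depth_iff hpm hreg).2 h))) hdepth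
  obtain ⟨hprime, m, hm⟩ := Alg6.mem_ass_iff.1 (not_not.1 hass)
  obtain ⟨m, rfl⟩ := Submodule.Quotient.mk_surjective _ m
  haveI : IsNoetherianRing ((f.fiber y).presheaf.stalk w) :=
    isNoetherianRing_of_surjective _ _ ((f.fiberι y).stalkMap w).hom ((f.fiberι y).stalkMap_surjective w)
  refine Alg6.mem_ass_iff.2 ⟨(maximalIdeal.isMaximal _).isPrime, ((f.fiberι y).stalkMap w).hom m, fun a => ?_⟩
  obtain ⟨a, rfl⟩ := (f.fiberι y).stalkMap_surjective w a
  have h1 : ((f.fiberι y).stalkMap w).hom a ∈ maximalIdeal _ ↔ a ∈ maximalIdeal _ :=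
    not_congr ⟨isUnit_of_map_unit ((f.fiberι y).stalkMap w).hom a, fun hu => hu.map _⟩
  rw [h1, hm a, ← Submodule.Quotient.mk_smul, Alg6.mem_pointwise_smul_top_iff, smul_eq_mul, smul_eq_mul, ← map_mul,
    ← RingHom.mem_ker, hker, Ideal.mem_span_singleton]
  exact ⟨fun ⟨v, hv⟩ => ⟨v, hv.symm⟩, fun ⟨v, hv⟩ => ⟨v, hv.symm⟩⟩

variable [IsLocallyNoetherian Y] [Flat f] {J : X.IdealSheafData} (hJ : BlowUp.IsEffCartierIdeal J)
  (htriv : ∀ x : X, IsMaxPt (f x) → stI J x = ⊤)

include hJ htriv in
/-- Descent at a point with a discrete valuation ring. -/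
theorem loc_of_maximal {y : Y} [IsDomain (Y.presheaf.stalk y)] [IsDiscreteValuationRing (Y.presheaf.stalk y)]
    (hfib : ∀ z z' : ↥(f.fiber y),
      IsAssociatedPrime (maximalIdeal ((f.fiber y).presheaf.stalk z)) ((f.fiber y).presheaf.stalk z) →
      IsAssociatedPrime (maximalIdeal ((f.fiber y).presheaf.stalk z')) ((f.fiber y).presheaf.stalk z') →
      z' ⤳ z → z' = z)
    {π : Y.presheaf.stalk y} (hπ : Irreducible π) (n : ℕ)
    (hmax : ∀ (x : X) (hx : f x = y), (∀ z : X, f z = y → z ⤳ x → z = x) →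
      stI J x = Ideal.span {(pb f (specializes_of_eq hx)).hom π ^ n}) : Loc f J y := by
  have hm : maximalIdeal (Y.presheaf.stalk y) = Ideal.span {π} := hπ.maximalIdeal_eq
  have hnzd : ∀ (x : X) (hx : f x ⤳ y), (pb f hx).hom π ∈ nonZeroDivisors (X.presheaf.stalk x) ∧
      (IsMaxPt (f x) → IsUnit ((pb f hx).hom π)) := by
    intro x hx
    haveI : IsDomain (Y.presheaf.stalk (f x)) := (VarGeom.normalAt_of_specializes hx).1
    obtain ⟨S, hS⟩ := VarGeom.exists_isLocalization_stalkSpecializes hx
    letI := (Y.presheaf.stalkSpecializes hx).hom.toAlgebra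
    haveI : IsLocalization S (Y.presheaf.stalk (f x)) := hS
    have h0 : (Y.presheaf.stalkSpecializes hx).hom π ≠ 0 := fun h0 => by
      obtain ⟨s, hs⟩ := (IsLocalization.map_eq_zero_iff S (Y.presheaf.stalk (f x)) π).1 h0
      have hu := IsLocalization.map_units (Y.presheaf.stalk (f x)) s
      rw [(mul_eq_zero.1 hs).resolve_right hπ.ne_zero, map_zero] at hu
      exact not_isUnit_zero hu
    refine ⟨?_, fun hmx => ?_⟩
    · letI := (f.stalkMap x).hom.toAlgebra
      haveI : Module.Flat (Y.presheaf.stalk (f x)) (X.presheaf.stalk x) := Flat.stalkMap f x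
      exact mem_nonZeroDivisors_iff_right.2 fun z hz => (Module.Flat.isSMulRegular_of_isRegular
        (M := X.presheaf.stalk x) (isRegular_of_ne_zero h0)).right_eq_zero_of_smul
        (by rw [Algebra.smul_def, mul_comm]; exact hz)
    · letI := (isField_of_isMaxPt hmx).toField
      exact IsUnit.map (f.stalkMap x).hom (Ne.isUnit h0 :)
  -- points of depth one of the special fibre are maximal
  have hass : ∀ (z : X) (hz : f z = y), LocCoh.depth (X.presheaf.stalk z) (X.presheaf.stalk z) ≤ 1 →
      ∀ z' : X, f z' = y → z' ⤳ z → z' = z := by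
    intro z hz hdz z' hz' hsp
    obtain ⟨w, rfl⟩ : z ∈ Set.range (f.fiberι y) := by rw [f.range_fiberι]; exact hz
    obtain ⟨p, hp⟩ : ∃ p, p = (pb f (specializes_of_eq hz')).hom π := ⟨_, rfl⟩
    have hpm : p ∈ maximalIdeal (X.presheaf.stalk z') := fun hu => by
      subst hz'
      refine hπ.not_isUnit (isUnit_of_map_unit (f.stalkMap z').hom π ?_)
      simpa [hp, pb] using hu
    haveI : Nontrivial (X.presheaf.stalk z' ⧸ Ideal.span {p}) := Ideal.Quotient.nontrivial_iff.2 fun h =>
      (maximalIdeal.isMaximal _).ne_top (top_le_iff.1 (h ▸ (Ideal.span_singleton_le_iff_mem _).2 hpm))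
    obtain ⟨P, hP⟩ := associatedPrimes.nonempty (X.presheaf.stalk z') (X.presheaf.stalk z' ⧸ Ideal.span {p})
    haveI := hP.isPrime
    obtain ⟨z'', hz'', hcomap⟩ := exists_point_of_prime z' P
    obtain ⟨S, hS⟩ := VarGeom.exists_isLocalization_stalkSpecializes hz''
    letI := (X.presheaf.stalkSpecializes hz'').hom.toAlgebra
    haveI : IsLocalization S (X.presheaf.stalk z'') := hS
    have hdepth := depth_le_one_of_ass S (hp ▸ (hnzd z' (specializes_of_eq hz')).1) hP hcomap
    have hsp' : f z'' ⤳ y := (hz''.map f.continuous).trans (specializes_of_eq hz')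
    have hpP : p ∈ P := by
      obtain ⟨-, m, hm'⟩ := Alg6.mem_ass_iff.1 hP
      obtain ⟨m, rfl⟩ := Submodule.Quotient.mk_surjective _ m
      refine (hm' p).2 ?_
      rw [← Submodule.Quotient.mk_smul, Submodule.Quotient.mk_eq_zero]
      exact Ideal.mul_mem_right _ _ (Ideal.mem_span_singleton_self p)
    have hfy : f z'' = y := by
      rcases eq_or_isMaxPt_of_specializes hsp' with h | h
      · exact h
      · exfalso
        rw [← hcomap, Ideal.mem_comap, hp] at hpP
        refine hpP ?_
        have := (hnzd z'' hsp').2 h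
        rw [show (X.presheaf.stalkSpecializes hz'').hom ((pb f (specializes_of_eq hz')).hom π) = (pb f hsp').hom π by
          show ((Y.presheaf.stalkSpecializes (specializes_of_eq hz') ≫ f.stalkMap z') ≫ X.presheaf.stalkSpecializes hz'').hom π = _
          rw [Category.assoc, ← Scheme.Hom.stalkSpecializes_stalkMap f z'' z' hz'', ← Category.assoc,
            TopCat.Presheaf.stalkSpecializes_comp]]
        exact this
    obtain ⟨w'', rfl⟩ : z'' ∈ Set.range (f.fiberι y) := by rw [f.range_fiberι]; exact hfy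
    obtain rfl := hfib w w'' (isAssociated_fibre f hm w (hnzd _ _).1 hdz)
      (isAssociated_fibre f hm w'' (hnzd _ _).1 hdepth)
      ((f.fiberι y).isEmbedding.isInducing.specializes_iff.1 (hz''.trans hsp))
    exact (hsp.antisymm hz'').eq
  refine ⟨π ^ n, pow_mem (mem_nonZeroDivisors_of_ne_zero hπ.ne_zero) n, fun x hx => ?_⟩
  obtain ⟨c, hc, hJc⟩ := exists_stI_gen hJ x
  rw [map_pow, hJc]
  refine span_eq_of_depth hc (pow_mem (hnzd x hx).1 n) fun z hz hdz => ?_
  have hzy : f z ⤳ y := (hz.map f.continuous).trans hx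
  have e : (X.presheaf.stalkSpecializes hz).hom ((pb f hx).hom π) = (pb f hzy).hom π := by
    show ((Y.presheaf.stalkSpecializes hx ≫ f.stalkMap x) ≫ X.presheaf.stalkSpecializes hz).hom π = _
    rw [Category.assoc, ← Scheme.Hom.stalkSpecializes_stalkMap f z x hz, ← Category.assoc,
      TopCat.Presheaf.stalkSpecializes_comp]
  have hs : Ideal.span {(X.presheaf.stalkSpecializes hz).hom c} = stI J z := by
    rw [stI_specializes J hz, hJc, Ideal.map_span, Set.image_singleton]
  rw [hs, map_pow, e]
  rcases eq_or_isMaxPt_of_specializes hzy with h | h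
  · exact hmax z h (hass z h hdz)
  · rw [htriv z h, eq_comm, Ideal.span_singleton_eq_top]
    exact ((hnzd z hzy).2 h).pow n

end Groth.Agent.Div86.Descend
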