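import Groth.Agent.Div86.Descend.Stalk
import Groth.Agent.AlgSpLib.CartierDepth
import Groth.Agent.FlatDvr.FibreStalk
import Groth.Prelude.Def_Pi1
import Mathlib.AlgebraicGeometry.Fiber
import Mathlib.AlgebraicGeometry.Properties
import Mathlib.RingTheory.DedekindDomain.Dvr

/-!
# Descent of divisors over a normal base
-/

set_option autoImplicit false
set_option linter.style.haveILetI false
set_option backward.isDefEq.respectTransparency false
set_option backward.isDefEq.respectTransparency.types false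

universe u

open CategoryTheory CategoryTheory.Limits AlgebraicGeometry TopologicalSpace IsLocalRing

namespace Groth.Agent.Div86.Descend

variable {X Y : Scheme.{u}}

theorem stI_top (x : X) : stI (⊤ : X.IdealSheafData) x = ⊤ := by
  obtain ⟨V, hV, hxV, -⟩ := exists_isAffineOpen_mem_and_subset (x := x) (U := ⊤) trivial
  rw [stI_eq _ ⟨V, hV⟩ hxV, Scheme.IdealSheafData.ideal_top, Pi.top_apply, Ideal.map_top]

/-- A point of a scheme with no proper generization. -/
def IsMaxPt (η : Y) : Prop := ∀ z : Y, z ⤳ η → z = η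

theorem isField_of_isMaxPt {η : Y} [IsDomain (Y.presheaf.stalk η)] (hη : IsMaxPt η) :
    IsField (Y.presheaf.stalk η) := by
  obtain ⟨z, hz, h⟩ := exists_point_of_prime η (⊥ : Ideal (Y.presheaf.stalk η))
  obtain rfl := hη z hz
  rw [TopCat.Presheaf.stalkSpecializes_refl] at h
  exact IsLocalRing.isField_iff_maximalIdeal_eq.2 h

/-- A generization with trivial prime is maximal. -/
theorem isMaxPt_of_bot {y η : Y} [IsDomain (Y.presheaf.stalk y)] (hη : η ⤳ y)
    (h : (maximalIdeal (Y.presheaf.stalk η)).comap (Y.presheaf.stalkSpecializes hη).hom = ⊥) : IsMaxPt η := by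
  intro z hz
  exact (specializes_of_comap_le hη (hz.trans hη) (h.le.trans bot_le)).antisymm hz |>.eq.symm

theorem isMaxPt_of_isField {y : Y} (hy : IsField (Y.presheaf.stalk y)) : IsMaxPt y := by
  intro z hz
  refine (specializes_of_comap_le (specializes_refl y) hz ?_).antisymm hz |>.eq.symm
  rw [(IsLocalRing.isField_iff_maximalIdeal_eq.1 hy), TopCat.Presheaf.stalkSpecializes_refl]
  exact bot_le

theorem eq_or_isMaxPt_of_specializes {y z : Y} [IsDomain (Y.presheaf.stalk y)] [Ring.DimensionLEOne (Y.presheaf.stalk y)]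
    (h : z ⤳ y) : z = y ∨ IsMaxPt z := by
  by_cases hb : (maximalIdeal (Y.presheaf.stalk z)).comap (Y.presheaf.stalkSpecializes h).hom = ⊥
  · exact .inr (isMaxPt_of_bot h hb)
  · haveI : ((maximalIdeal (Y.presheaf.stalk z)).comap (Y.presheaf.stalkSpecializes h).hom).IsPrime :=
      Ideal.comap_isPrime _ _
    have hm := IsLocalRing.eq_maximalIdeal (Ring.DimensionLEOne.maximalOfPrime hb inferInstance)
    refine .inl ((specializes_of_comap_le (specializes_refl y) h ?_).antisymm h |>.eq.symm)
    rw [hm, TopCat.Presheaf.stalkSpecializes_refl]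
    exact le_rfl

/-- Elements dividing a power of a regular prime element. -/
theorem exists_pow_of_mul_eq {B : Type u} [CommRing B] {p : B} (hp : p ∈ nonZeroDivisors B)
    (hP : (Ideal.span {p}).IsPrime) : ∀ (n : ℕ) (c d : B), c * d = p ^ n →
      ∃ k, Ideal.span {c} = Ideal.span {p ^ k}
  | 0, c, d, h => ⟨0, by
      rw [pow_zero] at h
      rw [pow_zero, Ideal.span_singleton_one, Ideal.span_singleton_eq_top.2 (IsUnit.of_mul_eq_one d h)]⟩
  | n + 1, c, d, h => by
    rcases hP.mem_or_mem (Ideal.mem_span_singleton.2 ⟨p ^ n, by rw [h, pow_succ']⟩ : c * d ∈ Ideal.span {p}) with hc | hd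
    · obtain ⟨c', rfl⟩ := Ideal.mem_span_singleton.1 hc
      obtain ⟨k, hk⟩ := exists_pow_of_mul_eq hp hP n c' d
        ((mul_cancel_left_mem_nonZeroDivisors hp).1 (by rw [← mul_assoc, h, pow_succ']))
      exact ⟨k + 1, by rw [pow_succ', ← Ideal.span_singleton_mul_span_singleton, hk,
        Ideal.span_singleton_mul_span_singleton]⟩
    · obtain ⟨d', rfl⟩ := Ideal.mem_span_singleton.1 hd
      exact exists_pow_of_mul_eq hp hP n c d'
        ((mul_cancel_left_mem_nonZeroDivisors hp).1 (by rw [← pow_succ', ← h]; ring))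

theorem pow_span_injective {B : Type u} [CommRing B] {p : B} (hp : p ∈ nonZeroDivisors B) (hu : ¬ IsUnit p)
    {a b : ℕ} (h : Ideal.span {p ^ a} = Ideal.span {p ^ b}) : a = b := by
  wlog hab : a ≤ b generalizing a b
  · exact (this h.symm (le_of_not_ge hab)).symm
  obtain ⟨d, rfl⟩ := Nat.exists_eq_add_of_le hab
  obtain ⟨e, he⟩ := Ideal.mem_span_singleton.1 (h.le (Ideal.mem_span_singleton_self _))
  have h1 : p ^ d * e = 1 := by
    refine (mul_cancel_left_mem_nonZeroDivisors (pow_mem hp a)).1 ?_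
    rw [← mul_assoc, ← pow_add, mul_one, ← he]
  by_contra hne
  exact hu ((isUnit_pow_iff (by omega : d ≠ 0)).1 (IsUnit.of_mul_eq_one e h1))

variable (f : X ⟶ Y) {J : X.IdealSheafData}

/-- A divisor trivial over a point is trivial at all points over it. -/
theorem stI_eq_top_of_fibre {η : Y} (h : J.comap (f.fiberι η) = ⊤) {x : X} (hx : f x = η) : stI J x = ⊤ := by
  subst hx
  rw [← f.fiberι_asFiber x]
  by_contra hne
  have h1 := stI_comap (f.fiberι (f x)) J (f.asFiber x)
  rw [h, stI_top] at h1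
  exact (maximalIdeal.isMaximal _).ne_top (top_le_iff.1 (h1.le.trans
    ((Ideal.map_mono (IsLocalRing.le_maximalIdeal hne)).trans
      (Ideal.map_le_iff_le_comap.2 fun a ha hu => ha (isUnit_of_map_unit _ a hu)))))

variable [IsLocallyNoetherian X] [IsLocallyNoetherian Y]

/-- The divisor of a pullback is trivial over the maximal points. -/
theorem fibre_eq_top_of_comap {I : Y.IdealSheafData} (hI : BlowUp.IsEffCartierIdeal I) (h : I.comap f = J)
    {η : Y} [IsDomain (Y.presheaf.stalk η)] (hη : IsMaxPt η) : J.comap (f.fiberι η) = ⊤ := by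
  refine eq_of_stI fun w => ?_
  obtain ⟨g, hg, hgI⟩ := exists_stI_gen hI (f (f.fiberι η w))
  have hu : IsUnit g := by
    have key : ∀ z : Y, z = η → ∀ a ∈ nonZeroDivisors (Y.presheaf.stalk z), IsUnit a := by
      rintro z rfl a ha
      letI := (isField_of_isMaxPt hη).toField
      exact (nonZeroDivisors.ne_zero ha).isUnit
    exact key _ (FlatDvr.fiberι_apply_eq f w) g hg
  rw [stI_top, stI_comap, ← h, stI_comap, hgI,
    Ideal.span_singleton_eq_top.2 hu, Ideal.map_top, Ideal.map_top]

omit [IsLocallyNoetherian X] [IsLocallyNoetherian Y] in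
/-- An integral fibre has prime special ideals. -/
theorem isPrime_map_of_isIntegral_fiber {y : Y} [IsIntegral (f.fiber y)] (x : X) (hx : f x = y) :
    ((maximalIdeal (Y.presheaf.stalk (f x))).map (f.stalkMap x).hom).IsPrime := by
  subst hx
  have h2 : (RingHom.ker ((f.fiberι (f x)).stalkMap (f.asFiber x)).hom).IsPrime := RingHom.ker_isPrime _
  rw [FlatDvr.ker_stalkMap_fiberι f (f.asFiber x)] at h2
  have key : ∀ z : X, z = x → ((maximalIdeal (Y.presheaf.stalk (f z))).map (f.stalkMap z).hom).IsPrime →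
      ((maximalIdeal (Y.presheaf.stalk (f x))).map (f.stalkMap x).hom).IsPrime := by
    rintro z rfl hz; exact hz
  exact key _ (f.fiberι_asFiber x) h2

omit [IsLocallyNoetherian X] [IsLocallyNoetherian Y] in
/-- An integral fibre has a generic point. -/
theorem exists_generic_of_isIntegral_fiber {y : Y} [IsIntegral (f.fiber y)] :
    ∃ ξ : X, f ξ = y ∧ ∀ x, f x = y → ξ ⤳ x := by
  refine ⟨f.fiberι y (genericPoint (f.fiber y)), FlatDvr.fiberι_apply_eq f _, fun x hx => ?_⟩
  obtain ⟨w, rfl⟩ : x ∈ Set.range (f.fiberι y) := by rw [f.range_fiberι]; exact hx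
  exact (genericPoint_specializes w).map (f.fiberι y).continuous

variable [Flat f] [Surjective f] (hJ : BlowUp.IsEffCartierIdeal J)
  (htriv : ∀ x : X, IsMaxPt (f x) → stI J x = ⊤)

include hJ htriv in
/-- Descent to the points of codimension at most one. -/
theorem loc_of_trivial (y : Y) [IsDomain (Y.presheaf.stalk y)] [IsIntegrallyClosed (Y.presheaf.stalk y)]
    (hy : LocCoh.depth (Y.presheaf.stalk y) (Y.presheaf.stalk y) ≤ 1)
    (hprime₁ : ringKrullDim (Y.presheaf.stalk y) = 1 → ∀ x : X, f x = y →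
      ((maximalIdeal (Y.presheaf.stalk (f x))).map (f.stalkMap x).hom).IsPrime)
    (hgen : ringKrullDim (Y.presheaf.stalk y) = 1 → ∃ ξ : X, f ξ = y ∧ ∀ x, f x = y → ξ ⤳ x) :
    Loc f J y := by
  by_cases hf : IsField (Y.presheaf.stalk y)
  · refine ⟨1, one_mem _, fun x hx => ?_⟩
    rw [map_one, Ideal.span_singleton_one]
    exact htriv x ((isMaxPt_of_isField hf _ hx).symm ▸ isMaxPt_of_isField hf)
  have hd1 : ringKrullDim (Y.presheaf.stalk y) ≤ 1 := by
    have h1 : min ((2 : ℕ) : WithBot ℕ∞) (ringKrullDim (Y.presheaf.stalk y)) ≤ (1 : WithBot ℕ∞) :=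
      (AlgSpLib.CartierDepth.one_two_le_depth_of_normal (Y.presheaf.stalk y)).trans (WithBot.coe_le_coe.2 hy)
    exact (min_le_iff.1 h1).resolve_left (by norm_num)
  haveI : Ring.KrullDimLE 1 (Y.presheaf.stalk y) := (Order.krullDimLE_iff 1 _).2 hd1
  haveI : Ring.DimensionLEOne (Y.presheaf.stalk y) :=
    ⟨fun hne hp => Ring.krullDimLE_one_iff_of_noZeroDivisors.1 inferInstance _ hne hp⟩
  haveI : IsDedekindDomain (Y.presheaf.stalk y) := { }
  haveI : IsDiscreteValuationRing (Y.presheaf.stalk y) :=
    ((IsDiscreteValuationRing.TFAE (Y.presheaf.stalk y) hf).out 0 2).2 ‹IsDedekindDomain _›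
  have hdim := IsDiscreteValuationRing.ringKrullDim_eq_one (Y.presheaf.stalk y)
  obtain ⟨π, hπ⟩ := IsDiscreteValuationRing.exists_irreducible (Y.presheaf.stalk y)
  have hmax : maximalIdeal (Y.presheaf.stalk y) = Ideal.span {π} := hπ.maximalIdeal_eq
  have hnzd : ∀ (x : X) (hx : f x = y), (pb f (specializes_of_eq hx)).hom π ∈ nonZeroDivisors (X.presheaf.stalk x) := by
    rintro x rfl
    letI := (f.stalkMap x).hom.toAlgebra
    haveI : Module.Flat (Y.presheaf.stalk (f x)) (X.presheaf.stalk x) := Flat.stalkMap f x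
    have : (IsSMulRegular (X.presheaf.stalk x) π) :=
      Module.Flat.isSMulRegular_of_isRegular (isRegular_of_ne_zero hπ.ne_zero) 
    refine mem_nonZeroDivisors_iff_right.2 fun z hz => this.right_eq_zero_of_smul ?_
    rw [Algebra.smul_def, mul_comm]
    simpa [pb, RingHom.algebraMap_toAlgebra] using hz
  have hnu : ∀ (x : X) (hx : f x = y), ¬ IsUnit ((pb f (specializes_of_eq hx)).hom π) := by
    rintro x rfl hu
    refine hπ.not_isUnit (isUnit_of_map_unit (f.stalkMap x).hom π ?_)
    simpa [pb] using hu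
  have hprime : ∀ (x : X) (hx : f x = y), (Ideal.span {(pb f (specializes_of_eq hx)).hom π}).IsPrime := by
    rintro x rfl
    have h2 := hprime₁ hdim x rfl
    rw [hmax, Ideal.map_span, Set.image_singleton] at h2
    simpa [pb] using h2
  have hrad : ∀ (x : X) (hx : f x = y) (c : X.presheaf.stalk x), stI J x = Ideal.span {c} →
      (pb f (specializes_of_eq hx)).hom π ∈ (Ideal.span {c}).radical := by
    intro x hx c hc
    rw [Ideal.radical_eq_sInf]
    refine Ideal.mem_sInf.2 fun {P} ⟨hcP, hP⟩ => ?_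
    obtain ⟨z, hz, hzP⟩ := exists_point_of_prime x P
    rw [← hzP, Ideal.mem_comap]
    have hzy : f z ⤳ y := (hz.map f.continuous).trans (specializes_of_eq hx)
    rcases eq_or_isMaxPt_of_specializes hzy with h | h
    · have e : (X.presheaf.stalkSpecializes hz).hom ((pb f (specializes_of_eq hx)).hom π) =
          (pb f (specializes_of_eq h)).hom π := by
        show ((Y.presheaf.stalkSpecializes (specializes_of_eq hx) ≫ f.stalkMap x) ≫ X.presheaf.stalkSpecializes hz).hom π = _
        rw [Category.assoc, ← Scheme.Hom.stalkSpecializes_stalkMap f z x hz, ← Category.assoc,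
          TopCat.Presheaf.stalkSpecializes_comp]
      rw [e]
      exact hnu z h
    · exfalso
      have h1 := htriv z h
      rw [stI_specializes J hz, hc] at h1
      refine (maximalIdeal.isMaximal (X.presheaf.stalk z)).ne_top (top_le_iff.1 (h1.ge.trans ?_))
      rw [Ideal.map_le_iff_le_comap, hzP]
      exact hcP
  have hpow : ∀ (x : X) (hx : f x = y), ∃ k, stI J x = Ideal.span {(pb f (specializes_of_eq hx)).hom π ^ k} := by
    intro x hx
    obtain ⟨c, -, hc⟩ := exists_stI_gen hJ x
    obtain ⟨n, hn⟩ := hrad x hx c hc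
    obtain ⟨d, hd⟩ := Ideal.mem_span_singleton.1 hn
    obtain ⟨k, hk⟩ := exists_pow_of_mul_eq (hnzd x hx) (hprime x hx) n c d hd.symm
    exact ⟨k, hc.trans hk⟩
  obtain ⟨ξ, hξ, hξgen⟩ := hgen hdim
  obtain ⟨k, hk⟩ := hpow ξ hξ
  refine ⟨π ^ k, pow_mem (mem_nonZeroDivisors_of_ne_zero hπ.ne_zero) k, fun x hx => ?_⟩
  rw [map_pow]
  rcases eq_or_isMaxPt_of_specializes hx with h | h
  · obtain ⟨k', hk'⟩ := hpow x h
    have hsp : ξ ⤳ x := hξgen x h
    have e : (X.presheaf.stalkSpecializes hsp).hom ((pb f (specializes_of_eq h)).hom π) =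
        (pb f (specializes_of_eq hξ)).hom π := by
      show ((Y.presheaf.stalkSpecializes (specializes_of_eq h) ≫ f.stalkMap x) ≫ X.presheaf.stalkSpecializes hsp).hom π = _
      rw [Category.assoc, ← Scheme.Hom.stalkSpecializes_stalkMap f ξ x hsp, ← Category.assoc,
        TopCat.Presheaf.stalkSpecializes_comp]
    have h2 := stI_specializes J hsp
    rw [hk, hk', Ideal.map_span, Set.image_singleton, map_pow, e] at h2
    rw [pow_span_injective (hnzd ξ hξ) (hnu ξ hξ) h2]
    exact hk'
  · rw [htriv x h, eq_comm, Ideal.span_singleton_eq_top]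
    refine IsUnit.pow _ ?_
    haveI := (VarGeom.normalAt_of_specializes hx).1
    obtain ⟨S, hS⟩ := VarGeom.exists_isLocalization_stalkSpecializes hx
    letI := (Y.presheaf.stalkSpecializes hx).hom.toAlgebra
    haveI : IsLocalization S (Y.presheaf.stalk (f x)) := hS
    refine IsUnit.map (f.stalkMap x).hom ?_
    by_contra hnot
    refine hπ.ne_zero ?_
    have h0 : algebraMap (Y.presheaf.stalk y) (Y.presheaf.stalk (f x)) π = 0 := by
      by_contra h1
      letI := (isField_of_isMaxPt h).toField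
      exact hnot (Ne.isUnit h1)
    obtain ⟨s, hs⟩ := (IsLocalization.map_eq_zero_iff S (Y.presheaf.stalk (f x)) π).1 h0
    refine (mul_eq_zero.1 hs).resolve_left fun hs0 => ?_
    have := IsLocalization.map_units (Y.presheaf.stalk (f x)) s
    rw [hs0, map_zero] at this
    exact not_isUnit_zero this

end Groth.Agent.Div86.Descend
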