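import Groth.Agent.Div86.Descend.GenPt

/-!
# Restriction of a morphism to open subschemes
-/

set_option autoImplicit false
set_option linter.style.haveILetI false
set_option backward.isDefEq.respectTransparency false
set_option backward.isDefEq.respectTransparency.types false

universe u

open CategoryTheory CategoryTheory.Limits AlgebraicGeometry TopologicalSpace IsLocalRing

namespace Groth.Agent.Div86.Descend

variable {X Y X' Y' : Scheme.{u}} {f : X ⟶ Y} {a : X' ⟶ Y'} {i : Y' ⟶ Y} {j : X' ⟶ X}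
  (w : a ≫ i = j ≫ f)
include w

lemma apply_square (u : X') : f (j u) = i (a u) :=
  (congrArg (fun m : X' ⟶ Y => m u) w).symm

/-- Germs of functions of the base, pulled back along the two sides of a square. -/
lemma stalkMap_germ_square (u : X') {O : Y.Opens} (g : Γ(Y, O)) (h₁ : i (a u) ∈ O) (h₂ : f (j u) ∈ O) :
    (a.stalkMap u).hom ((i.stalkMap (a u)).hom (Y.presheaf.germ O (i (a u)) h₁ g)) =
      (j.stalkMap u).hom ((f.stalkMap (j u)).hom (Y.presheaf.germ O (f (j u)) h₂ g)) := by
  have key : ∀ (m m' : X' ⟶ Y), m = m' → ∀ (h : m u ∈ O) (h' : m' u ∈ O),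
      (m.stalkMap u).hom (Y.presheaf.germ O (m u) h g) = (m'.stalkMap u).hom (Y.presheaf.germ O (m' u) h' g) := by
    rintro m _ rfl h h'; rfl
  have h := key (a ≫ i) (j ≫ f) w h₁ h₂
  rw [Scheme.Hom.stalkMap_comp, Scheme.Hom.stalkMap_comp] at h
  exact h

/-- The special ideal is the one of the ambient morphism. -/
lemma isPrime_map_square [IsOpenImmersion i] [IsOpenImmersion j] (u : X')
    (h : ((maximalIdeal (Y.presheaf.stalk (f (j u)))).map (f.stalkMap (j u)).hom).IsPrime) :
    ((maximalIdeal (Y'.presheaf.stalk (a u))).map (a.stalkMap u).hom).IsPrime := by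
  have key : ∀ (m m' : X' ⟶ Y), m = m' →
      (maximalIdeal (Y.presheaf.stalk (m u))).map (m.stalkMap u).hom =
        (maximalIdeal (Y.presheaf.stalk (m' u))).map (m'.stalkMap u).hom := by
    rintro m _ rfl; rfl
  have e := key (a ≫ i) (j ≫ f) w
  rw [Scheme.Hom.stalkMap_comp, Scheme.Hom.stalkMap_comp, CommRingCat.hom_comp, CommRingCat.hom_comp,
    ← Ideal.map_map, ← Ideal.map_map] at e
  have hi := ConcreteCategory.bijective_of_isIso (i.stalkMap (a u))
  have hj := ConcreteCategory.bijective_of_isIso (j.stalkMap u)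
  have hm : (maximalIdeal (Y.presheaf.stalk (i (a u)))).map (i.stalkMap (a u)).hom =
      maximalIdeal (Y'.presheaf.stalk (a u)) := by
    haveI := Ideal.map_isPrime_of_equiv (asIso (i.stalkMap (a u))).commRingCatIsoToRingEquiv
      (I := maximalIdeal (Y.presheaf.stalk (i (a u))))
    haveI : ((maximalIdeal (Y.presheaf.stalk (i (a u)))).map (i.stalkMap (a u)).hom).IsMaximal :=
      Ideal.IsMaximal.map_bijective (i.stalkMap (a u)).hom hi (maximalIdeal.isMaximal _)
    exact IsLocalRing.eq_maximalIdeal inferInstance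
  rw [← hm]
  refine Eq.mpr (congrArg Ideal.IsPrime e) ?_
  exact @Ideal.map_isPrime_of_equiv _ _ _ _ _ _ _ (asIso (j.stalkMap u)).commRingCatIsoToRingEquiv _ h

/-- Generic points of fibres lie in all open pieces meeting the fibres. -/
lemma exists_generic_square [IsOpenImmersion j] [IsOpenImmersion i] [Surjective a] (y : Y')
    (h : ∃ ξ : X, f ξ = i y ∧ ∀ x, f x = i y → ξ ⤳ x) : ∃ ξ : X', a ξ = y ∧ ∀ u, a u = y → ξ ⤳ u := by
  obtain ⟨ξ, hξ, hgen⟩ := h
  obtain ⟨u₀, rfl⟩ := a.surjective y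
  have hmem : ξ ∈ j.opensRange := (hgen (j u₀) (apply_square w u₀)).mem_open j.opensRange.2 ⟨u₀, rfl⟩
  obtain ⟨ξ', rfl⟩ := hmem
  refine ⟨ξ', i.isOpenEmbedding.injective ((apply_square w ξ').symm.trans hξ), fun u hu => ?_⟩
  exact j.isOpenEmbedding.isInducing.specializes_iff.1 (hgen (j u) ((apply_square w u).trans (by rw [hu])))

omit w in
lemma isMaxPt_apply [IsOpenImmersion i] {y : Y'} (hy : IsMaxPt y) : IsMaxPt (i y) := fun z hz => by
  obtain ⟨z', rfl⟩ : z ∈ i.opensRange := hz.mem_open i.opensRange.2 ⟨y, rfl⟩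
  rw [hy z' (i.isOpenEmbedding.isInducing.specializes_iff.1 hz)]

omit w in
/-- Normality on an open subscheme. -/
lemma normal_stalk [IsOpenImmersion i] (hY : Pi1.IsNormalScheme Y) (y : Y') :
    IsDomain (Y'.presheaf.stalk y) ∧ IsIntegrallyClosed (Y'.presheaf.stalk y) := by
  obtain ⟨h1, h2⟩ := hY (i y)
  let e := (asIso (i.stalkMap y)).commRingCatIsoToRingEquiv
  exact ⟨e.symm.toMulEquiv.isDomain, IsIntegrallyClosed.of_equiv e⟩

omit w in
lemma ringKrullDim_stalk_apply [IsOpenImmersion i] (y : Y') :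
    ringKrullDim (Y.presheaf.stalk (i y)) = ringKrullDim (Y'.presheaf.stalk y) :=
  ringKrullDim_eq_of_ringEquiv (asIso (i.stalkMap y)).commRingCatIsoToRingEquiv

end Groth.Agent.Div86.Descend
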