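import Groth.Agent.Div86.Descend.Triv
import Groth.Agent.Div86.Descend.Square
import Mathlib.AlgebraicGeometry.Morphisms.QuasiSeparated

/-!
# The divisor of a trivialization on the generic fibre
-/

set_option autoImplicit false
set_option linter.style.haveILetI false
set_option backward.isDefEq.respectTransparency false
set_option backward.isDefEq.respectTransparency.types false

universe u

open CategoryTheory CategoryTheory.Limits AlgebraicGeometry TopologicalSpace IsLocalRing
open Groth.Agent.AModX Groth.Agent.InvX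

namespace Groth.Agent.Div86.Descend

lemma dvd_of_mul_right {B : Type u} [CommRing B] {a b c : B} (hc : c ∈ nonZeroDivisors B) (h : a * c ∣ b * c) :
    a ∣ b := by
  obtain ⟨e, he⟩ := h
  exact ⟨e, (mul_cancel_right_mem_nonZeroDivisors hc).1 (by rw [he]; ring)⟩

lemma span_cancel {B : Type u} [CommRing B] {a b c : B} (hc : c ∈ nonZeroDivisors B)
    (h : Ideal.span {a * c} = Ideal.span {b * c}) : Ideal.span {a} = Ideal.span {b} :=
  le_antisymm
    (Ideal.span_singleton_le_span_singleton.2 (dvd_of_mul_right hc (Ideal.span_singleton_le_span_singleton.1 h.le)))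
    (Ideal.span_singleton_le_span_singleton.2 (dvd_of_mul_right hc (Ideal.span_singleton_le_span_singleton.1 h.ge)))

lemma span_mul_congr {B : Type u} [CommRing B] {a b : B} (c : B) (h : Ideal.span {a} = Ideal.span {b}) :
    Ideal.span {c * a} = Ideal.span {c * b} := by
  rw [← Ideal.span_singleton_mul_span_singleton, h, Ideal.span_singleton_mul_span_singleton]

lemma mem_nonZeroDivisors_map_of_bijective {B C : Type u} [CommRing B] [CommRing C] (φ : B →+* C)
    (hφ : Function.Bijective φ) {b : B} (hb : b ∈ nonZeroDivisors B) : φ b ∈ nonZeroDivisors C := by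
  refine mem_nonZeroDivisors_iff_right.2 fun z hz => ?_
  obtain ⟨z, rfl⟩ := hφ.2 z
  rw [← map_mul, ← map_zero φ] at hz
  rw [mem_nonZeroDivisors_iff_right.1 hb z (hφ.1 hz), map_zero]

variable {X Y : Scheme.{u}} [IsLocallyNoetherian X] [IsLocallyNoetherian Y] {f : X ⟶ Y} [Flat f] {η : Y}
  [IsDomain (Y.presheaf.stalk η)] {L : X.Modules}
  {σ : (Scheme.Modules.pullback (f.fiberι η)).obj L ≅ Coh.structureModule (f.fiber η)}
  {W : Y.Opens} {hηW : η ∈ W}

omit [IsLocallyNoetherian X] in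
/-- The fractions of finitely many charts descend. -/
theorem exists_sol [IsLocallyNoetherian X] (hη : IsMaxPt η) (hY : Pi1.IsNormalScheme Y) (hW : IsAffineOpen W)
    (hspec : ∀ y ∈ W, η ⤳ y)
    (hfib : ∀ y : Y, ringKrullDim (Y.presheaf.stalk y) = 1 → IsIntegral (f.fiber y))
    {κ : Type u} [Fintype κ] [DecidableEq κ] (k : κ → Chart σ W hηW)
    (hsurj : ∀ y ∈ W, ∃ i, ∃ x ∈ (k i).V, f x = y) :
    ∃ (d : Γ(Y, W)), Y.presheaf.germ W η hηW d ≠ 0 ∧ ∀ y ∈ W, ∃ (W' : Y.Opens) (_ : y ∈ W') (hle : W' ≤ W)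
      (hη' : η ∈ W') (h : Γ(Y, W')), Y.presheaf.germ W' η hη' h ≠ 0 ∧
        ∀ (i : κ) (x : X) (hx : x ∈ (k i).V) (hfx : f x ∈ W'),
          Ideal.span {bg f x (hle hfx) d * X.presheaf.germ (k i).V x hx (k i).c} =
            Ideal.span {bg f x hfx h * bg f x (hle hfx) (k i).d} := by
  classical
  have hdom : ∀ y : Y, IsDomain (Y.presheaf.stalk y) := fun y => (hY y).1
  haveI := fun y => hdom y
  let d : Γ(Y, W) := ∏ i, (k i).d
  have hd : Y.presheaf.germ W η hηW d ≠ 0 := by
    rw [map_prod]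
    exact Finset.prod_ne_zero_iff.2 fun i _ => (k i).hd
  refine ⟨d, hd, ?_⟩
  let U : X.Opens := ⨆ i, (k i).V
  have hUW : U ≤ f ⁻¹ᵁ W := iSup_le fun i => (k i).le
  let a : U.toScheme ⟶ W.toScheme := f.resLE W U hUW
  have w : a ≫ W.ι = U.ι ≫ f := f.resLE_comp_ι hUW
  haveI : Flat a := by
    have : a = X.homOfLE hUW ≫ f ∣_ W := rfl
    rw [this]
    haveI : Flat (f ∣_ W) := MorphismProperty.of_isPullback (isPullback_morphismRestrict f W).flip ‹Flat f›
    infer_instance
  haveI : Surjective a := ⟨fun y => by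
    obtain ⟨i, x, hx, hfx⟩ := hsurj y.1 y.2
    exact ⟨⟨x, le_iSup (fun i => (k i).V) i hx⟩, W.ι.isOpenEmbedding.injective ((apply_square w _).symm.trans hfx)⟩⟩
  haveI : IsAffine W.toScheme := hW
  haveI : CompactSpace U.toScheme := by
    refine isCompact_iff_compactSpace.1 ?_
    rw [show (U : Set X) = ⋃ i, ((k i).V : Set X) from Opens.coe_iSup _]
    exact isCompact_iUnion fun i => (k i).aff.isCompact
  haveI : QuasiCompact a := (HasAffineProperty.iff_of_isAffine (P := @QuasiCompact)).2 ‹_›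
  -- the numerators over the common denominator
  let num : ∀ i, Γ(X, (k i).V) := fun i =>
    (k i).c * f.appLE W (k i).V (k i).le (∏ j ∈ Finset.univ.erase i, (k j).d)
  have hnum : ∀ (i : κ) (x : X) (hx : x ∈ (k i).V),
      X.presheaf.germ (k i).V x hx (num i) * bg f x ((k i).le hx) (k i).d =
        bg f x ((k i).le hx) d * X.presheaf.germ (k i).V x hx (k i).c := by
    intro i x hx
    rw [map_mul, germ_appLE]
    have : d = (k i).d * ∏ j ∈ Finset.univ.erase i, (k j).d := (Finset.mul_prod_erase _ _ (Finset.mem_univ i)).symm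
    rw [this]
    simp only [bg, map_mul]
    ring
  have hden : ∀ (i : κ) (x : X) (hfx : f x ∈ W), bg f x hfx (k i).d ∈ nonZeroDivisors (X.presheaf.stalk x) :=
    fun i x hfx => map_mem_nonZeroDivisors (germ_ne_zero hfx (hspec _ hfx) (k i).hd)
  have hindep : ∀ (i j : κ) (x : X) (hi : x ∈ (k i).V) (hj : x ∈ (k j).V),
      Ideal.span {X.presheaf.germ (k i).V x hi (num i)} = Ideal.span {X.presheaf.germ (k j).V x hj (num j)} := by
    intro i j x hi hj
    refine span_cancel (mul_mem (hden i x ((k i).le hi)) (hden j x ((k i).le hi))) ?_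
    rw [show X.presheaf.germ (k i).V x hi (num i) * (bg f x ((k i).le hi) (k i).d * bg f x ((k i).le hi) (k j).d) =
        bg f x ((k i).le hi) d * (bg f x ((k i).le hi) (k j).d * X.presheaf.germ (k i).V x hi (k i).c) by
      rw [← mul_assoc, hnum i x hi]; ring,
      show X.presheaf.germ (k j).V x hj (num j) * (bg f x ((k i).le hi) (k i).d * bg f x ((k i).le hi) (k j).d) =
        bg f x ((k i).le hi) d * (bg f x ((k i).le hi) (k i).d * X.presheaf.germ (k j).V x hj (k j).c) by
      rw [mul_comm (bg f x ((k i).le hi) (k i).d), ← mul_assoc, hnum j x hj]; ring]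
    exact span_mul_congr _ ((k i).compat (k j) hη hdom hspec hi hj)
  have hnum_nzd : ∀ (i : κ) (x : X) (hx : x ∈ (k i).V),
      X.presheaf.germ (k i).V x hx (num i) ∈ nonZeroDivisors (X.presheaf.stalk x) := by
    intro i x hx
    suffices h : X.presheaf.germ (k i).V x hx (num i) * bg f x ((k i).le hx) (k i).d ∈
        nonZeroDivisors (X.presheaf.stalk x) from (mul_mem_nonZeroDivisors.1 h).1
    rw [hnum i x hx]
    exact mul_mem (map_mem_nonZeroDivisors (germ_ne_zero _ (hspec _ ((k i).le hx)) hd))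
      ((k i).num_mem hη hx (hspec _ ((k i).le hx)))
  -- the divisor on the union
  have hmem : ∀ u : U.toScheme, ∃ i, U.ι u ∈ (k i).V := fun u => Opens.mem_iSup.1 u.2
  choose ix hix using hmem
  let G : ∀ u : U.toScheme, Ideal (U.toScheme.presheaf.stalk u) := fun u =>
    Ideal.span {(U.ι.stalkMap u).hom (X.presheaf.germ (k (ix u)).V (U.ι u) (hix u) (num (ix u)))}
  have hG : ∀ (i : κ) (u : U.toScheme) (hu : U.ι u ∈ (k i).V),
      G u = Ideal.span {(U.ι.stalkMap u).hom (X.presheaf.germ (k i).V (U.ι u) hu (num i))} := by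
    intro i u hu
    have := congrArg (Ideal.map (U.ι.stalkMap u).hom) (hindep (ix u) i (U.ι u) (hix u) hu)
    rwa [Ideal.map_span, Set.image_singleton, Ideal.map_span, Set.image_singleton] at this
  have hfam : IsLocPrincipalFamily G := fun u => by
    refine ⟨⟨U.ι ⁻¹ᵁ (k (ix u)).V, (k (ix u)).aff.preimage_of_isOpenImmersion U.ι (by
      rw [Scheme.Opens.opensRange_ι]; exact le_iSup (fun i => (k i).V) (ix u))⟩, hix u,
      U.ι.app (k (ix u)).V (num (ix u)), mem_nonZeroDivisors_of_germs fun z hz => ?_, fun z hz => ?_⟩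
    · show U.toScheme.presheaf.germ _ z hz _ ∈ _
      rw [← Scheme.Hom.germ_stalkMap_apply U.ι _ z hz]
      exact mem_nonZeroDivisors_map_of_bijective (U.ι.stalkMap z).hom
        (ConcreteCategory.bijective_of_isIso (U.ι.stalkMap z)) (hnum_nzd _ _ hz)
    · rw [hG (ix u) z hz]
      congr 2
      exact Scheme.Hom.germ_stalkMap_apply U.ι _ z hz _
  have hJ := isEffCartier_ofFamily hfam
  have hnormal : ∀ z : W.toScheme, IsDomain (W.toScheme.presheaf.stalk z) ∧ IsIntegrallyClosed (W.toScheme.presheaf.stalk z) :=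
    fun z => normal_stalk (i := W.ι) hY z
  have hloc : ∀ z : W.toScheme, LocCoh.depth (W.toScheme.presheaf.stalk z) (W.toScheme.presheaf.stalk z) ≤ 1 →
      Loc a (ofFamily hfam) z := by
    intro z hz
    haveI := (hnormal z).1
    haveI := (hnormal z).2
    refine loc_of_trivial a hJ (fun u hu => ?_) z hz (fun hdim u hu => ?_) (fun hdim => ?_)
    · have hmax : IsMaxPt (f (U.ι u)) := by rw [apply_square w u]; exact isMaxPt_apply hu
      have hη' : f (U.ι u) = η := (hmax η (hspec _ ((k (ix u)).le (hix u)))).symm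
      have key : ∀ (y : Y) (hy : y ∈ W), y = η → ∀ g : Γ(Y, W), Y.presheaf.germ W η hηW g ≠ 0 →
          IsUnit (Y.presheaf.germ W y hy g) := by
        rintro y hy rfl g hg
        letI := (isField_of_isMaxPt hη).toField
        exact (Ne.isUnit hg :)
      rw [stI_ofFamily, hG (ix u) u (hix u), Ideal.span_singleton_eq_top]
      refine IsUnit.map _ ?_
      rw [map_mul, germ_appLE]
      refine ((k (ix u)).isUnit_num hη (hix u) hη').mul (IsUnit.map (f.stalkMap (U.ι u)).hom (key _ _ hη' _ ?_))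
      rw [map_prod]
      exact Finset.prod_ne_zero_iff.2 fun j _ => (k j).hd
    · haveI := hfib (W.ι z) ((ringKrullDim_stalk_apply (i := W.ι) z).trans hdim)
      refine isPrime_map_square w u ?_
      exact isPrime_map_of_isIntegral_fiber f (y := W.ι z) (U.ι u) ((apply_square w u).trans (by rw [hu]))
    · haveI := hfib (W.ι z) ((ringKrullDim_stalk_apply (i := W.ι) z).trans hdim)
      exact exists_generic_square w z (exists_generic_of_isIntegral_fiber f)
  obtain ⟨I, hI, hIJ⟩ := exists_descend_divisor a hJ hloc (Or.inl inferInstance)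
  intro y hy
  obtain ⟨W₁, hyW₁, g, hg, hIg⟩ := hI ⟨y, hy⟩
  have hle : W.ι ''ᵁ W₁.1 ≤ W := W.ι_image_le _
  have hspec' : η ⤳ y := hspec y hy
  have hy' : y ∈ W.ι ''ᵁ W₁.1 := ⟨⟨y, hy⟩, hyW₁, rfl⟩
  let h : Γ(Y, W.ι ''ᵁ W₁.1) := (W.ι.appIso W₁.1).inv g
  have hgerm : ∀ (z : W.toScheme) (hz : z ∈ W₁.1),
      (W.ι.stalkMap z).hom (Y.presheaf.germ (W.ι ''ᵁ W₁.1) (W.ι z) ⟨z, hz, rfl⟩ h) =
        W.toScheme.presheaf.germ W₁.1 z hz g := by
    intro z hz
    have e1 : (W.ι.appIso W₁.1).hom h = g := by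
      show ((W.ι.appIso W₁.1).inv ≫ (W.ι.appIso W₁.1).hom) g = g
      rw [Iso.inv_hom_id]; rfl
    rw [Scheme.Hom.germ_stalkMap_apply]
    conv_rhs => rw [← e1, Scheme.Hom.appIso_hom, ConcreteCategory.comp_apply]
    exact (W.toScheme.presheaf.germ_res_apply _ _ _ _).symm
  have hη' : η ∈ W.ι ''ᵁ W₁.1 := hspec'.mem_open (W.ι ''ᵁ W₁.1).2 hy'
  refine ⟨W.ι ''ᵁ W₁.1, hy', hle, hη', h, fun h0 => ?_, ?_⟩
  · obtain ⟨z, hz, hzη⟩ := id hη'
    have key : ∀ (y' : Y) (hy' : y' ∈ W.ι ''ᵁ W₁.1), y' = η → Y.presheaf.germ (W.ι ''ᵁ W₁.1) y' hy' h = 0 := by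
      rintro y' hy' rfl; exact h0
    have h1 := hgerm z hz
    have h2 : Y.presheaf.germ (W.ι ''ᵁ W₁.1) (W.ι z) ⟨z, hz, rfl⟩ h = 0 := key (W.ι z) ⟨z, hz, rfl⟩ hzη
    haveI := (hnormal z).1
    exact nonZeroDivisors.ne_zero (germ_mem_nonZeroDivisors W₁.2 hg hz)
      (h1.symm.trans ((congrArg (W.ι.stalkMap z).hom h2).trans (map_zero _)))
  · intro i x hx hfx
    obtain ⟨u, rfl⟩ : ∃ u : U.toScheme, U.ι u = x := ⟨⟨x, le_iSup (fun i => (k i).V) i hx⟩, rfl⟩
    have hau : a u ∈ W₁.1 := by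
      obtain ⟨z, hz, hz'⟩ := hfx
      rwa [← W.ι.isOpenEmbedding.injective (hz'.trans (apply_square w u))]
    have e1 : stI (ofFamily hfam) u = Ideal.span {(U.ι.stalkMap u).hom (bg f (U.ι u) hfx h)} := by
      rw [← hIJ, stI_comap, stI_eq_span I W₁ hau hIg, Ideal.map_span, Set.image_singleton, ← hgerm (a u) hau,
        stalkMap_germ_square w u h _ hfx]
    rw [stI_ofFamily, hG i u hx] at e1
    have hb := ConcreteCategory.bijective_of_isIso (U.ι.stalkMap u)
    have e2 : Ideal.span {X.presheaf.germ (k i).V (U.ι u) hx (num i)} = Ideal.span {bg f (U.ι u) hfx h} := by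
      have := congrArg (Ideal.comap (U.ι.stalkMap u).hom) e1
      rw [← Set.image_singleton, ← Ideal.map_span, ← Set.image_singleton (a := bg f (U.ι u) hfx h), ← Ideal.map_span,
        Ideal.comap_map_of_bijective _ hb, Ideal.comap_map_of_bijective _ hb] at this
      exact this
    rw [← hnum i _ hx, mul_comm, mul_comm (bg f (U.ι u) hfx h)]
    exact span_mul_congr _ e2

end Groth.Agent.Div86.Descend
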