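import Groth.Agent.ModPairLib.Basic
import Groth.Agent.QCoh.Stalk
import Groth.Agent.InvX.Tensor
import Groth.Agent.Div86.Descend.Alg
import Mathlib.AlgebraicGeometry.Noetherian
import Groth.Prelude.Def_BlowUp2

/-!
# Stalk ideals of ideal sheaves
-/

set_option autoImplicit false
set_option linter.style.haveILetI false
set_option backward.isDefEq.respectTransparency false
set_option backward.isDefEq.respectTransparency.types false

universe u

open CategoryTheory AlgebraicGeometry TopologicalSpace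

namespace Groth.Agent.Div86.Descend

variable {X Y : Scheme.{u}}

/-- The stalk of an ideal sheaf at a point. -/
noncomputable def stI (I : X.IdealSheafData) (x : X) : Ideal (X.presheaf.stalk x) :=
  ⨆ (V : X.affineOpens) (h : x ∈ V.1), (I.ideal V).map (X.presheaf.germ V.1 x h).hom

lemma map_germ_le (I : X.IdealSheafData) {U V : X.affineOpens} (h : V.1 ≤ U.1) {x : X} (hx : x ∈ V.1) :
    (I.ideal U).map (X.presheaf.germ U.1 x (h hx)).hom = (I.ideal V).map (X.presheaf.germ V.1 x hx).hom := by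
  rw [← I.map_ideal (U := V) (V := U) h, Ideal.map_map, ← CommRingCat.hom_comp]
  exact congrArg (fun φ : Γ(X, U.1) ⟶ X.presheaf.stalk x => (I.ideal U).map φ.hom)
    (X.presheaf.germ_res (homOfLE h) x hx).symm

/-- The stalk ideal is computed on any affine neighbourhood. -/
theorem stI_eq (I : X.IdealSheafData) (U : X.affineOpens) {x : X} (hx : x ∈ U.1) :
    stI I x = (I.ideal U).map (X.presheaf.germ U.1 x hx).hom := by
  refine le_antisymm (iSup₂_le fun V hV => ?_)
    (le_iSup₂ (f := fun (V : X.affineOpens) (h : x ∈ V.1) => (I.ideal V).map (X.presheaf.germ V.1 x h).hom) U hx)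
  obtain ⟨W, hW, hxW, hle⟩ := exists_isAffineOpen_mem_and_subset (x := x) (U := U.1 ⊓ V.1) ⟨hx, hV⟩
  rw [map_germ_le I (U := V) (V := ⟨W, hW⟩) (fun y hy => (hle hy).2) hxW,
    map_germ_le I (U := U) (V := ⟨W, hW⟩) (fun y hy => (hle hy).1) hxW]

theorem le_of_stI {I J : X.IdealSheafData} (h : ∀ x, stI I x ≤ stI J x) : I ≤ J := by
  intro U
  refine U.2.ideal_le_iff.2 fun x hx => ?_
  rw [← stI_eq I U hx, ← stI_eq J U hx]
  exact h x

theorem eq_of_stI {I J : X.IdealSheafData} (h : ∀ x, stI I x = stI J x) : I = J :=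
  le_antisymm (le_of_stI fun x => (h x).le) (le_of_stI fun x => (h x).ge)

/-- Inverse images on stalks. -/
theorem stI_comap (f : X ⟶ Y) (I : Y.IdealSheafData) (x : X) :
    stI (I.comap f) x = (stI I (f x)).map (f.stalkMap x).hom := by
  obtain ⟨V, hV, hxV, -⟩ := exists_isAffineOpen_mem_and_subset (x := f x) (U := ⊤) trivial
  obtain ⟨W, hW, hxW, hWV⟩ := exists_isAffineOpen_mem_and_subset (x := x) (U := f ⁻¹ᵁ V) hxV
  have e : W ≤ f ⁻¹ᵁ V := hWV
  rw [stI_eq _ ⟨W, hW⟩ hxW, stI_eq I ⟨V, hV⟩ (e hxW),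
    ModPairLib.ideal_comap I f ⟨V, hV⟩ ⟨W, hW⟩ e, Ideal.map_map, Ideal.map_map,
    ← CommRingCat.hom_comp, ← CommRingCat.hom_comp]
  refine congrArg (fun φ : Γ(Y, V) ⟶ X.presheaf.stalk x => (I.ideal ⟨V, hV⟩).map φ.hom) ?_
  rw [Scheme.Hom.appLE, Category.assoc, X.presheaf.germ_res, Scheme.Hom.germ_stalkMap]

/-- Specialization of stalk ideals. -/
theorem stI_specializes (I : X.IdealSheafData) {x z : X} (h : z ⤳ x) :
    stI I z = (stI I x).map (X.presheaf.stalkSpecializes h).hom := by
  obtain ⟨V, hV, hxV, -⟩ := exists_isAffineOpen_mem_and_subset (x := x) (U := ⊤) trivial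
  rw [stI_eq I ⟨V, hV⟩ hxV, stI_eq I ⟨V, hV⟩ (h.mem_open V.2 hxV), Ideal.map_map, ← CommRingCat.hom_comp,
    TopCat.Presheaf.germ_stalkSpecializes]

theorem stI_eq_span (I : X.IdealSheafData) (U : X.affineOpens) {x : X} (hx : x ∈ U.1) {g : Γ(X, U.1)}
    (h : I.ideal U = Ideal.span {g}) : stI I x = Ideal.span {X.presheaf.germ U.1 x hx g} := by
  rw [stI_eq I U hx, h, Ideal.map_span, Set.image_singleton]

theorem stI_eq_top {I : X.IdealSheafData} {x : X} (h : x ∉ I.support) : stI I x = ⊤ := by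
  obtain ⟨V, hV, hxV, -⟩ := exists_isAffineOpen_mem_and_subset (x := x) (U := ⊤) trivial
  rw [I.mem_support_iff_of_mem (U := ⟨V, hV⟩) hxV, Scheme.mem_zeroLocus_iff] at h
  push Not at h
  obtain ⟨g, hg, hgx⟩ := h
  rw [stI_eq I ⟨V, hV⟩ hxV]
  exact Ideal.eq_top_of_isUnit_mem _ (Ideal.mem_map_of_mem _ hg) ((X.mem_basicOpen g x hxV).1 hgx)

lemma span_eq_of_res {U V : X.Opens} (h : V ≤ U) {x : X} (hx : x ∈ V) (g : Γ(X, U)) :
    Ideal.span {X.presheaf.germ V x hx (AModX.resR h g)} = Ideal.span {X.presheaf.germ U x (h hx) g} := by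
  rw [InvX.germ_resR' h hx g]

section Noetherian

variable [IsLocallyNoetherian X]

lemma germ_mem_nonZeroDivisors {U : X.Opens} (hU : IsAffineOpen U) {f : Γ(X, U)}
    (hf : f ∈ nonZeroDivisors Γ(X, U)) {x : X} (hx : x ∈ U) :
    X.presheaf.germ U x hx f ∈ nonZeroDivisors (X.presheaf.stalk x) := by
  letI := QCoh.stalkAlg (X := X) hx
  haveI := QCoh.isLocalization_stalk' hU hx
  exact IsLocalization.map_nonZeroDivisors_le (hU.primeIdealOf ⟨x, hx⟩).asIdeal.primeCompl
    (X.presheaf.stalk x) ⟨f, hf, rfl⟩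

omit [IsLocallyNoetherian X] in
lemma mem_nonZeroDivisors_of_germs {V : X.Opens} {g : Γ(X, V)}
    (h : ∀ (x : X) (hx : x ∈ V), X.presheaf.germ V x hx g ∈ nonZeroDivisors (X.presheaf.stalk x)) :
    g ∈ nonZeroDivisors Γ(X, V) := by
  rw [mem_nonZeroDivisors_iff_right]
  intro r hr
  refine TopCat.Presheaf.section_ext X.sheaf V r 0 fun y hy => ?_
  show X.presheaf.germ V y hy r = X.presheaf.germ V y hy 0
  rw [map_zero]
  have h1 := congrArg (X.presheaf.germ V y hy) hr
  rw [map_mul, map_zero] at h1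
  exact mem_nonZeroDivisors_iff_right.1 (h y hy) _ h1

theorem exists_stI_gen {I : X.IdealSheafData} (hI : BlowUp.IsEffCartierIdeal I) (x : X) :
    ∃ c : X.presheaf.stalk x, c ∈ nonZeroDivisors (X.presheaf.stalk x) ∧ stI I x = Ideal.span {c} := by
  obtain ⟨U, hxU, f, hf, hIf⟩ := hI x
  exact ⟨_, germ_mem_nonZeroDivisors U.2 hf hxU, stI_eq_span I U hxU hIf⟩

omit [IsLocallyNoetherian X] in
lemma mem_nonZeroDivisors_of_span_eq {R : Type u} [CommRing R] {a b : R} (ha : a ∈ nonZeroDivisors R)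
    (h : Ideal.span {a} = Ideal.span {b}) : b ∈ nonZeroDivisors R := by
  obtain ⟨c, hc⟩ := Ideal.mem_span_singleton.1 (h.le (Ideal.mem_span_singleton_self a))
  exact mem_nonZeroDivisors_iff_right.2 fun z hz => mem_nonZeroDivisors_iff_right.1 ha z
    (by rw [hc, ← mul_assoc, hz, zero_mul])

end Noetherian

/-- A family of stalk ideals that is locally the one of a principal ideal. -/
def IsLocPrincipalFamily (G : ∀ x : X, Ideal (X.presheaf.stalk x)) : Prop :=
  ∀ x : X, ∃ (W : X.affineOpens) (_ : x ∈ W.1) (g : Γ(X, W.1)), g ∈ nonZeroDivisors Γ(X, W.1) ∧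
    ∀ (z : X) (hz : z ∈ W.1), G z = Ideal.span {X.presheaf.germ W.1 z hz g}

variable {G : ∀ x : X, Ideal (X.presheaf.stalk x)}

/-- The sections with germs in a family of stalk ideals. -/
noncomputable def famIdeal (G : ∀ x : X, Ideal (X.presheaf.stalk x)) (V : X.Opens) : Ideal Γ(X, V) :=
  ⨅ z : V, (G z.1).comap (X.presheaf.germ V z.1 z.2).hom

lemma mem_famIdeal {V : X.Opens} {r : Γ(X, V)} :
    r ∈ famIdeal G V ↔ ∀ (z : X) (hz : z ∈ V), X.presheaf.germ V z hz r ∈ G z := by
  simp [famIdeal, Submodule.mem_iInf]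

lemma famIdeal_eq_span {W : X.Opens} (hW : IsAffineOpen W) {g : Γ(X, W)}
    (h : ∀ (z : X) (hz : z ∈ W), G z = Ideal.span {X.presheaf.germ W z hz g}) :
    famIdeal G W = Ideal.span {g} := by
  refine le_antisymm (fun r hr => hW.mem_ideal_iff.2 fun z hz => ?_) ?_
  · rw [Ideal.map_span, Set.image_singleton]
    exact (h z hz).le (mem_famIdeal.1 hr z hz)
  · rw [Ideal.span_singleton_le_iff_mem, mem_famIdeal]
    intro z hz
    rw [h z hz]
    exact Ideal.mem_span_singleton_self _

/-- The ideal sheaf of a locally principal family of stalk ideals. -/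
noncomputable def ofFamily (hG : IsLocPrincipalFamily G) : X.IdealSheafData where
  ideal V := famIdeal G V.1
  map_ideal_basicOpen V h := by
    classical
    apply le_antisymm
    · rw [Ideal.map_le_iff_le_comap]
      intro r hr
      rw [Ideal.mem_comap, mem_famIdeal]
      intro z hz
      exact (InvX.germ_resR' (X.basicOpen_le h) hz r).symm ▸ mem_famIdeal.1 hr z (X.basicOpen_le h hz)
    · intro a ha
      haveI := V.2.isLocalization_basicOpen h
      have key : ∀ p : V.1, ∃ (b : Γ(X, V.1)) (_ : p.1 ∈ X.basicOpen b) (N : ℕ) (c : Γ(X, V.1)),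
          AModX.resR (X.basicOpen_le h) c = AModX.resR (X.basicOpen_le h) (h ^ N) * a ∧
          ∀ (z : X) (hz : z ∈ X.basicOpen b), X.presheaf.germ V.1 z (X.basicOpen_le b hz) c ∈ G z := by
        intro p
        obtain ⟨W₀, hpW, g, -, hg⟩ := hG p.1
        obtain ⟨b, hbW, hpb⟩ := V.2.exists_basicOpen_le (V := W₀.1) ⟨p.1, hpW⟩ p.2
        obtain ⟨⟨c₀, ⟨_, n, rfl⟩⟩, hc₀⟩ := IsLocalization.surj (Submonoid.powers h) a
        have hc₀' : a * AModX.resR (X.basicOpen_le h) (h ^ n) = AModX.resR (X.basicOpen_le h) c₀ := hc₀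
        -- on the smaller open the section is a multiple of the generator after a power of `h`
        haveI := V.2.isLocalization_basicOpen b
        let W := X.basicOpen b
        have hWV : W ≤ V.1 := X.basicOpen_le b
        have hW : IsAffineOpen W := V.2.basicOpen b
        let g' := AModX.resR hbW g
        let hW' := AModX.resR hWV h
        haveI := hW.isLocalization_basicOpen hW'
        have hb' : X.basicOpen hW' ≤ X.basicOpen h := fun z hz => by
          rw [X.mem_basicOpen hW' z (X.basicOpen_le _ hz), InvX.germ_resR'] at hz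
          exact (X.mem_basicOpen h z _).2 hz
        have hmem : AModX.resR (X.basicOpen_le hW') (AModX.resR hWV c₀) ∈
            (Ideal.span {g'}).map (algebraMap Γ(X, W) Γ(X, X.basicOpen hW')) := by
          refine (hW.basicOpen hW').mem_ideal_iff.2 fun z hz => ?_
          rw [Ideal.map_span, Set.image_singleton, Ideal.map_span, Set.image_singleton]
          have hzh : z ∈ X.basicOpen h := hb' hz
          have h1 : X.presheaf.germ V.1 z (X.basicOpen_le h hzh) c₀ ∈ G z := by
            have h2 := congrArg (X.presheaf.germ (X.basicOpen h) z hzh) hc₀'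
            rw [map_mul, InvX.germ_resR', InvX.germ_resR'] at h2
            rw [← h2]
            exact Ideal.mul_mem_right _ _ (mem_famIdeal.1 ha z hzh)
          rw [hg z (hbW (X.basicOpen_le _ hz))] at h1
          refine Eq.mp ?_ h1
          congr 1
          · show Ideal.span _ = Ideal.span {X.presheaf.germ _ z hz (AModX.resR (X.basicOpen_le hW') g')}
            rw [InvX.germ_resR', InvX.germ_resR']
          · exact ((InvX.germ_resR' (X.basicOpen_le hW') hz _).trans
              (InvX.germ_resR' hWV (X.basicOpen_le _ hz) c₀)).symm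
        obtain ⟨_, ⟨m, rfl⟩, hm⟩ := (IsLocalization.algebraMap_mem_map_algebraMap_iff
          (Submonoid.powers hW') Γ(X, X.basicOpen hW') _ _).1 hmem
        refine ⟨b, hpb, m + n, h ^ m * c₀, ?_, fun z hz => ?_⟩
        · rw [map_mul, ← hc₀', pow_add, map_mul]
          ring
        · rw [hg z (hbW hz), map_mul]
          have h3 := Ideal.mem_map_of_mem (X.presheaf.germ W z hz).hom hm
          rw [Ideal.map_span, Set.image_singleton] at h3
          refine Eq.mp ?_ h3
          congr 1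
          · show Ideal.span {X.presheaf.germ W z hz (AModX.resR hbW g)} = _
            rw [InvX.germ_resR']
          · show X.presheaf.germ W z hz (hW' ^ m * AModX.resR hWV c₀) = _
            rw [map_mul, map_pow, InvX.germ_resR', InvX.germ_resR', ← map_pow]
      choose b hb N c hc hcG using key
      obtain ⟨t, ht⟩ := V.2.isCompact.elim_finite_subcover (fun p : V.1 => (X.basicOpen (b p) : Set X))
        (fun p => (X.basicOpen (b p)).2) (fun z hz => Set.mem_iUnion.2 ⟨⟨z, hz⟩, hb ⟨z, hz⟩⟩)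
      obtain ⟨⟨c₀, ⟨_, n, rfl⟩⟩, hc₀⟩ := IsLocalization.surj (Submonoid.powers h) a
      have hc₀' : a * AModX.resR (X.basicOpen_le h) (h ^ n) = AModX.resR (X.basicOpen_le h) c₀ := hc₀
      -- two candidates agree after a power of `h`
      have hex : ∀ p : V.1, ∃ M : ℕ, h ^ M * (h ^ n * c p) = h ^ M * (h ^ N p * c₀) := fun p => by
        have h4 : AModX.resR (X.basicOpen_le h) (h ^ n * c p) = AModX.resR (X.basicOpen_le h) (h ^ N p * c₀) := by
          rw [map_mul, map_mul, hc p, ← hc₀']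
          ring
        obtain ⟨⟨_, M, rfl⟩, hM⟩ := (IsLocalization.eq_iff_exists (Submonoid.powers h) Γ(X, X.basicOpen h)).1 h4
        exact ⟨M, hM⟩
      choose M hM using hex
      let K := t.sup fun p => M p + N p
      have hmem : h ^ K * c₀ ∈ famIdeal G V.1 := by
        rw [mem_famIdeal]
        intro z hz
        obtain ⟨p, hp, hzp⟩ := Set.mem_iUnion₂.1 (ht hz)
        obtain ⟨e, he⟩ := Nat.exists_eq_add_of_le (Finset.le_sup (f := fun p => M p + N p) hp)
        rw [show K = M p + N p + e from he, show h ^ (M p + N p + e) * c₀ = h ^ e * (h ^ M p * (h ^ N p * c₀)) by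
          ring, ← hM p, map_mul, map_mul, map_mul]
        exact Ideal.mul_mem_left _ _ (Ideal.mul_mem_left _ _ (Ideal.mul_mem_left _ _ (hcG p z hzp)))
      have h5 := Ideal.mem_map_of_mem (algebraMap Γ(X, V.1) Γ(X, X.basicOpen h)) hmem
      have hu : IsUnit (algebraMap Γ(X, V.1) Γ(X, X.basicOpen h) h) :=
        IsLocalization.map_units Γ(X, X.basicOpen h) (⟨h, Submonoid.mem_powers h⟩ : Submonoid.powers h)
      rw [map_mul, ← hc₀, mul_comm a, ← mul_assoc, ← map_mul, ← pow_add, map_pow] at h5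
      exact (Ideal.unit_mul_mem_iff_mem _ (hu.pow _)).1 h5

theorem ofFamily_chart (hG : IsLocPrincipalFamily G) (x : X) :
    ∃ (W : X.affineOpens) (_ : x ∈ W.1) (g : Γ(X, W.1)), g ∈ nonZeroDivisors Γ(X, W.1) ∧
      (ofFamily hG).ideal W = Ideal.span {g} ∧
      ∀ (z : X) (hz : z ∈ W.1), G z = Ideal.span {X.presheaf.germ W.1 z hz g} := by
  obtain ⟨W, hx, g, hg, h⟩ := hG x
  exact ⟨W, hx, g, hg, famIdeal_eq_span W.2 h, h⟩

theorem isEffCartier_ofFamily (hG : IsLocPrincipalFamily G) : BlowUp.IsEffCartierIdeal (ofFamily hG) := fun x => by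
  obtain ⟨W, hx, g, hg, hI, -⟩ := ofFamily_chart hG x
  exact ⟨W, hx, g, hg, hI⟩

theorem stI_ofFamily (hG : IsLocPrincipalFamily G) (x : X) : stI (ofFamily hG) x = G x := by
  obtain ⟨W, hx, g, -, hI, h⟩ := ofFamily_chart hG x
  rw [stI_eq_span _ W hx hI, h x hx]

end Groth.Agent.Div86.Descend
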