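import Groth.Agent.Div86.Descend.Main
import Groth.Agent.BlowUpLib.Local
import Groth.Agent.DescLib.IdealDescent

/-!
# Ideal sheaves on the spectra of local rings
-/

set_option autoImplicit false
set_option linter.style.haveILetI false
set_option backward.isDefEq.respectTransparency false
set_option backward.isDefEq.respectTransparency.types false

universe u

open CategoryTheory CategoryTheory.Limits AlgebraicGeometry TopologicalSpace IsLocalRing

namespace Groth.Agent.Div86.Descend

/-- The ideal of an ideal sheaf on an affine spectrum. -/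
noncomputable def topI {R : CommRingCat.{u}} (K : (Spec R).IdealSheafData) : Ideal R :=
  (K.ideal ⟨⊤, isAffineOpen_top _⟩).map (Scheme.ΓSpecIso R).hom.hom

theorem topI_comap {R S : CommRingCat.{u}} (φ : R ⟶ S) (K : (Spec R).IdealSheafData) :
    topI (K.comap (Spec.map φ)) = (topI K).map φ.hom := by
  rw [topI, topI, DescLib.comap_ideal_top_of_isAffine, Ideal.map_map, Ideal.map_map, ← CommRingCat.hom_comp,
    ← CommRingCat.hom_comp, Scheme.ΓSpecIso_naturality]

theorem ext_topI {R : CommRingCat.{u}} {K L : (Spec R).IdealSheafData} (h : topI K = topI L) : K = L := by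
  refine Scheme.IdealSheafData.ext_of_isAffine ?_
  have hb := ConcreteCategory.bijective_of_isIso (Scheme.ΓSpecIso R).hom
  have := congrArg (Ideal.comap (Scheme.ΓSpecIso R).hom.hom) h
  rwa [topI, topI, Ideal.comap_map_of_bijective _ hb, Ideal.comap_map_of_bijective _ hb] at this

variable {X Y : Scheme.{u}}

/-- The ideal on the spectrum of a local ring is the stalk ideal. -/
theorem topI_fromSpecStalk (J : X.IdealSheafData) (x : X) : topI (J.comap (X.fromSpecStalk x)) = stI J x := by
  obtain ⟨V, hV, hxV, -⟩ := exists_isAffineOpen_mem_and_subset (x := x) (U := ⊤) trivial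
  rw [stI_eq J ⟨V, hV⟩ hxV, ← hV.fromSpecStalk_eq_fromSpecStalk hxV, IsAffineOpen.fromSpecStalk,
    Scheme.IdealSheafData.comap_comp, topI_comap]
  congr 1
  rw [topI, ModPairLib.ideal_comap J hV.fromSpec ⟨V, hV⟩ ⟨⊤, isAffineOpen_top _⟩ (by simp),
    Ideal.map_map, ← CommRingCat.hom_comp]
  have : hV.fromSpec.appLE V ⊤ (by simp) ≫ (Scheme.ΓSpecIso Γ(X, V)).hom = 𝟙 _ := by
    rw [Scheme.Hom.appLE, hV.fromSpec_app_self]
    simp [← Functor.map_comp]
  rw [this]
  exact Ideal.map_id _

/-- An effective divisor on the spectrum of a local ring is principal. -/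
theorem exists_topI_gen {R : CommRingCat.{u}} [IsLocalRing R] {K : (Spec R).IdealSheafData}
    (hK : BlowUp.IsEffCartierIdeal K) : ∃ g ∈ nonZeroDivisors R, topI K = Ideal.span {g} := by
  obtain ⟨U, hU, g, hg, hKg⟩ := hK (closedPoint R)
  obtain rfl : U = ⟨⊤, isAffineOpen_top _⟩ := Subtype.ext ((IsLocalRing.closedPoint_mem_iff _).1 hU)
  refine ⟨(Scheme.ΓSpecIso R).hom g, ?_, ?_⟩
  · exact mem_nonZeroDivisors_of_injective
      (f := (Scheme.ΓSpecIso R).inv.hom) (ConcreteCategory.bijective_of_isIso (Scheme.ΓSpecIso R).inv).injective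
      (by simpa using hg)
  · rw [topI, hKg, Ideal.map_span, Set.image_singleton]

variable (f : X ⟶ Y)

/-- Descent over the spectrum of a local ring of the base gives descent to that local ring. -/
theorem loc_of_spec {J : X.IdealSheafData} {y : Y} {K : (Spec (Y.presheaf.stalk y)).IdealSheafData}
    (hK : BlowUp.IsEffCartierIdeal K)
    (h : K.comap (pullback.snd f (Y.fromSpecStalk y)) = J.comap (pullback.fst f (Y.fromSpecStalk y))) :
    Loc f J y := by
  obtain ⟨g, hg, hKg⟩ := exists_topI_gen hK
  refine ⟨g, hg, fun x hx => ?_⟩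
  have w : X.fromSpecStalk x ≫ f = Spec.map (pb f hx) ≫ Y.fromSpecStalk y := by
    rw [Spec.map_comp, Category.assoc, Scheme.SpecMap_stalkSpecializes_fromSpecStalk,
      Scheme.SpecMap_stalkMap_fromSpecStalk]
  have e := congrArg (fun L => L.comap (pullback.lift _ _ w)) h
  simp only [← Scheme.IdealSheafData.comap_comp, pullback.lift_fst, pullback.lift_snd] at e
  rw [← topI_fromSpecStalk, ← e, topI_comap, hKg, Ideal.map_span, Set.image_singleton]

theorem flat_fromSpecStalk (x : X) : Flat (X.fromSpecStalk x) := by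
  obtain ⟨V, hV, hxV, -⟩ := exists_isAffineOpen_mem_and_subset (x := x) (U := ⊤) trivial
  rw [← hV.fromSpecStalk_eq_fromSpecStalk hxV, IsAffineOpen.fromSpecStalk]
  letI := QCoh.stalkAlg (X := X) hxV
  haveI := QCoh.isLocalization_stalk' hV hxV
  have : Flat (Spec.map (X.presheaf.germ V x hxV)) :=
    Flat.SpecMap_iff.2 (RingHom.flat_algebraMap_iff.2
      (IsLocalization.flat _ (hV.primeIdealOf ⟨x, hxV⟩).asIdeal.primeCompl))
  infer_instance

/-- Descent to a local ring of the base gives descent over its spectrum. -/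
theorem spec_of_comap {J : X.IdealSheafData} {I : Y.IdealSheafData} (hI : BlowUp.IsEffCartierIdeal I)
    (h : I.comap f = J) (y : Y) : ∃ K : (Spec (Y.presheaf.stalk y)).IdealSheafData, BlowUp.IsEffCartierIdeal K ∧
      K.comap (pullback.snd f (Y.fromSpecStalk y)) = J.comap (pullback.fst f (Y.fromSpecStalk y)) := by
  haveI := flat_fromSpecStalk y
  refine ⟨I.comap (Y.fromSpecStalk y), BlowUpLib.isEffCartier_comap_flat _ hI, ?_⟩
  rw [← h, ← Scheme.IdealSheafData.comap_comp, ← Scheme.IdealSheafData.comap_comp, pullback.condition]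

end Groth.Agent.Div86.Descend
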