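import Groth.Agent.Div86.Descend.GenPt
import Groth.Agent.InvX.GenLocus

/-!
# Trivializations on the fibre over a maximal point
-/

set_option autoImplicit false
set_option linter.style.haveILetI false
set_option backward.isDefEq.respectTransparency false
set_option backward.isDefEq.respectTransparency.types false

universe u

open CategoryTheory CategoryTheory.Limits AlgebraicGeometry TopologicalSpace IsLocalRing
open Groth.Agent.AModX Groth.Agent.InvX

namespace Groth.Agent.Div86.Descend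

variable {X Y : Scheme.{u}} {f : X ⟶ Y} {η : Y} {L : X.Modules}

variable (σ : (Scheme.Modules.pullback (f.fiberι η)).obj L ≅ Coh.structureModule (f.fiber η))

/-- The function on the fibre given by a section along a trivialization. -/
noncomputable def tval {V : X.Opens} (e : Γ(L, V)) : Γ(f.fiber η, f.fiberι η ⁻¹ᵁ V) :=
  σ.hom.app (f.fiberι η ⁻¹ᵁ V) (InvX.pullElt (f.fiberι η) e)

lemma tval_smul {V : X.Opens} (g : Γ(X, V)) (e : Γ(L, V)) :
    tval σ (g • e) = (f.fiberι η).app V g * tval σ e := by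
  have h1 : InvX.pullElt (f.fiberι η) (g • e) = (f.fiberι η).app V g • InvX.pullElt (f.fiberι η) e :=
    Scheme.Modules.Hom.app_smul ((Scheme.Modules.pullbackPushforwardAdjunction (f.fiberι η)).unit.app L) g e
  show σ.hom.app _ (InvX.pullElt (f.fiberι η) (g • e)) = _
  rw [h1]
  exact Scheme.Modules.Hom.app_smul σ.hom _ _

lemma tval_res {V V' : X.Opens} (h : V' ≤ V) (e : Γ(L, V)) :
    tval σ (res L h e) = resR ((f.fiberι η).preimage_mono h) (tval σ e) := by
  have h1 : InvX.pullElt (f.fiberι η) (res L h e) =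
      res ((Scheme.Modules.pullback (f.fiberι η)).obj L) ((f.fiberι η).preimage_mono h)
        (InvX.pullElt (f.fiberι η) e) :=
    app_res ((Scheme.Modules.pullbackPushforwardAdjunction (f.fiberι η)).unit.app L) h e
  show σ.hom.app _ (InvX.pullElt (f.fiberι η) (res L h e)) = _
  rw [h1]
  exact app_res σ.hom _ _

lemma isUnit_tval {V : X.Opens} {e : Γ(L, V)} (he : IsFrame e) : IsUnit (tval σ e) := by
  set O := f.fiberι η ⁻¹ᵁ V
  obtain ⟨c, hc⟩ := (InvX.isFrame_pullElt (f.fiberι η) he).exists_coord le_rfl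
    (σ.inv.app O (1 : Γ(f.fiber η, O)))
  rw [res_self] at hc
  refine IsUnit.of_mul_eq_one c ?_
  have h1 := congrArg (σ.hom.app O) hc
  have h2 : σ.hom.app O (σ.inv.app O (1 : Γ(f.fiber η, O))) = (1 : Γ(f.fiber η, O)) :=
    congrArg (fun φ : Coh.structureModule (f.fiber η) ⟶ Coh.structureModule (f.fiber η) =>
      φ.app O (1 : Γ(f.fiber η, O))) σ.inv_hom_id
  rw [h2, Scheme.Modules.Hom.app_smul] at h1
  rw [mul_comm]
  exact h1.symm

variable [IsLocallyNoetherian X] [IsLocallyNoetherian Y] [Flat f] [IsDomain (Y.presheaf.stalk η)]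

/-- A section with given values is unique. -/
theorem tval_injective (hη : IsMaxPt η) (hdom : ∀ y : Y, IsDomain (Y.presheaf.stalk y))
    (hL : PicF.IsInvertible L) {O : X.Opens} (hO : ∀ x ∈ O, η ⤳ f x) {e e' : Γ(L, O)}
    (h : tval σ e = tval σ e') : e = e' := by
  refine eq_of_locally _ _ fun x hx => ?_
  obtain ⟨U, hU, l, hl⟩ := exists_frame hL x
  refine ⟨O ⊓ U, inf_le_left, ⟨hx, hU⟩, ?_⟩
  obtain ⟨g, hg⟩ := hl.exists_coord inf_le_right (res L (inf_le_left : O ⊓ U ≤ O) e)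
  obtain ⟨g', hg'⟩ := hl.exists_coord inf_le_right (res L (inf_le_left : O ⊓ U ≤ O) e')
  have h1 := congrArg (resR ((f.fiberι η).preimage_mono (inf_le_left : O ⊓ U ≤ O))) h
  rw [← tval_res σ (inf_le_left : O ⊓ U ≤ O), ← tval_res σ (inf_le_left : O ⊓ U ≤ O), hg, hg', tval_smul, tval_smul] at h1
  have h2 := (isUnit_tval σ (hl.res inf_le_right)).mul_right_cancel h1
  rw [hg, hg', eq_of_fibre f hη (O := O ⊓ U) (fun z hz => hO z hz.1) (fun z _ => hdom (f z)) h2]

omit [IsLocallyNoetherian X] [IsLocallyNoetherian Y] [Flat f] in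
/-- Functions of the base, not vanishing at the maximal point, are invertible on the fibre. -/
theorem isUnit_fiber_of_base (hη : IsMaxPt η) {W : Y.Opens} {hηW : η ∈ W} {d : Γ(Y, W)}
    (hd : Y.presheaf.germ W η hηW d ≠ 0) {V : X.Opens} (hVW : V ≤ f ⁻¹ᵁ W) :
    IsUnit ((f.fiberι η).app V (f.appLE W V hVW d)) := by
  refine RingedSpace.isUnit_of_isUnit_germ _ _ _ fun w hw => ?_
  have key : ∀ (z : Y) (hz : z ∈ W), z = η → IsUnit (Y.presheaf.germ W z hz d) := by
    rintro z hz rfl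
    letI := (isField_of_isMaxPt hη).toField
    exact (Ne.isUnit hd :)
  show IsUnit ((f.fiber η).presheaf.germ (f.fiberι η ⁻¹ᵁ V) w hw ((f.fiberι η).app V (f.appLE W V hVW d)))
  rw [← Scheme.Hom.germ_stalkMap_apply (f.fiberι η) V w hw, Scheme.Hom.appLE, ConcreteCategory.comp_apply,
    X.presheaf.germ_res_apply, ← Scheme.Hom.germ_stalkMap_apply f W (f.fiberι η w) (hVW hw)]
  exact ((key _ (hVW hw) (FlatDvr.fiberι_apply_eq f w)).map _).map _

/-- An affine piece with a frame and the fraction it is along a trivialization. -/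
structure Chart (W : Y.Opens) (hηW : η ∈ W) where
  /-- the open -/
  V : X.Opens
  aff : IsAffineOpen V
  le : V ≤ f ⁻¹ᵁ W
  /-- the frame -/
  l : Γ(L, V)
  frame : IsFrame l
  /-- the numerator -/
  c : Γ(X, V)
  /-- the denominator -/
  d : Γ(Y, W)
  hd : Y.presheaf.germ W η hηW d ≠ 0
  eq : (f.fiberι η).app V c * tval σ l = (f.fiberι η).app V (f.appLE W V le d)

variable {σ} {W : Y.Opens} {hηW : η ∈ W}

/-- The germ of a function of the base in the total space. -/
noncomputable abbrev bg (f : X ⟶ Y) {O : Y.Opens} (x : X) (hx : f x ∈ O) (g : Γ(Y, O)) : X.presheaf.stalk x :=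
  (f.stalkMap x).hom (Y.presheaf.germ O (f x) hx g)

omit [IsLocallyNoetherian X] [IsLocallyNoetherian Y] [Flat f] [IsDomain (Y.presheaf.stalk η)] in
lemma germ_appLE {O : Y.Opens} {V : X.Opens} (h : V ≤ f ⁻¹ᵁ O) (x : X) (hx : x ∈ V) (g : Γ(Y, O)) :
    X.presheaf.germ V x hx (f.appLE O V h g) = bg f x (h hx) g := by
  rw [Scheme.Hom.appLE, ConcreteCategory.comp_apply, X.presheaf.germ_res_apply, bg,
    Scheme.Hom.germ_stalkMap_apply]

omit [IsLocallyNoetherian X] [IsLocallyNoetherian Y] [Flat f] [IsDomain (Y.presheaf.stalk η)] in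
lemma germ_ne_zero {O : Y.Opens} {y : Y} (hy : y ∈ O) (hspec : η ⤳ y) {hηO : η ∈ O} {g : Γ(Y, O)}
    (hg : Y.presheaf.germ O η hηO g ≠ 0) : Y.presheaf.germ O y hy g ≠ 0 := fun h0 => hg (by
  have := congrArg (Y.presheaf.stalkSpecializes hspec).hom h0
  rwa [map_zero, ← ConcreteCategory.comp_apply (Y.presheaf.germ O y hy), TopCat.Presheaf.germ_stalkSpecializes] at this)

omit [IsLocallyNoetherian X] [IsLocallyNoetherian Y] [IsDomain (Y.presheaf.stalk η)] in
/-- A nonzero element of a domain stays regular along a flat map. -/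
lemma map_mem_nonZeroDivisors {x : X} [IsDomain (Y.presheaf.stalk (f x))] {a : Y.presheaf.stalk (f x)}
    (ha : a ≠ 0) : (f.stalkMap x).hom a ∈ nonZeroDivisors (X.presheaf.stalk x) := by
  letI := (f.stalkMap x).hom.toAlgebra
  haveI : Module.Flat (Y.presheaf.stalk (f x)) (X.presheaf.stalk x) := Flat.stalkMap f x
  exact mem_nonZeroDivisors_iff_right.2 fun z hz => (Module.Flat.isSMulRegular_of_isRegular
    (M := X.presheaf.stalk x) (isRegular_of_ne_zero ha)).right_eq_zero_of_smul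
    (by rw [Algebra.smul_def, mul_comm]; exact hz)

omit [IsLocallyNoetherian X] [IsLocallyNoetherian Y] [Flat f] in
lemma Chart.isUnit_num (χ : Chart σ W hηW) (hη : IsMaxPt η) {z : X} (hz : z ∈ χ.V) (hzη : f z = η) :
    IsUnit (X.presheaf.germ χ.V z hz χ.c) := by
  obtain ⟨w, rfl⟩ : z ∈ Set.range (f.fiberι η) := by rw [f.range_fiberι]; exact hzη
  refine isUnit_of_map_unit ((f.fiberι η).stalkMap w).hom _ ?_
  rw [Scheme.Hom.germ_stalkMap_apply]
  refine IsUnit.map _ (isUnit_of_mul_isUnit_left (y := tval σ χ.l) ?_)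
  rw [χ.eq]
  exact isUnit_fiber_of_base hη χ.hd χ.le

lemma Chart.num_mem (χ : Chart σ W hηW) (hη : IsMaxPt η) {x : X} (hx : x ∈ χ.V)
    [IsDomain (Y.presheaf.stalk (f x))] (hspec : η ⤳ f x) :
    X.presheaf.germ χ.V x hx χ.c ∈ nonZeroDivisors (X.presheaf.stalk x) := by
  refine mem_nonZeroDivisors_iff_right.2 fun t ht => eq_zero_of_fibre f hη hspec t fun z hz hzη => ?_
  have h1 := congrArg (X.presheaf.stalkSpecializes hz).hom ht
  rw [map_mul, map_zero, ← ConcreteCategory.comp_apply (X.presheaf.germ χ.V x hx),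
    TopCat.Presheaf.germ_stalkSpecializes] at h1
  exact (χ.isUnit_num hη (hz.mem_open χ.V.2 hx) hzη).mul_left_eq_zero.1 h1

omit [IsLocallyNoetherian Y] [IsLocallyNoetherian X] [Flat f] in
theorem exists_chart (hη : IsMaxPt η) (hL : PicF.IsInvertible L) (hW : IsAffineOpen W) {x : X} (hx : f x ∈ W) :
    ∃ χ : Chart σ W hηW, x ∈ χ.V := by
  obtain ⟨U, hU, l, hl⟩ := exists_frame hL x
  obtain ⟨V, hV, hxV, hle⟩ := exists_isAffineOpen_mem_and_subset (x := x) (U := U ⊓ f ⁻¹ᵁ W) ⟨hU, hx⟩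
  have h₁ : V ≤ U := fun z hz => (hle hz).1
  have h₂ : V ≤ f ⁻¹ᵁ W := fun z hz => (hle hz).2
  obtain ⟨v, hv⟩ := isUnit_tval σ (hl.res h₁)
  obtain ⟨c, d, hd, hcd⟩ := exists_denom f hη hV hW hηW h₂ (↑v⁻¹)
  exact ⟨⟨V, hV, h₂, res L h₁ l, hl.res h₁, c, d, hd, by rw [hcd, ← hv, mul_assoc, Units.inv_mul, mul_one]⟩, hxV⟩

/-- Two charts give the same fraction up to units. -/
theorem Chart.compat (a b : Chart σ W hηW) (hη : IsMaxPt η) (hdom : ∀ y : Y, IsDomain (Y.presheaf.stalk y))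
    (hspec : ∀ y ∈ W, η ⤳ y) {x : X} (hxa : x ∈ a.V) (hxb : x ∈ b.V) :
    Ideal.span {bg f x (a.le hxa) b.d * X.presheaf.germ a.V x hxa a.c} =
      Ideal.span {bg f x (a.le hxa) a.d * X.presheaf.germ b.V x hxb b.c} := by
  obtain ⟨g, hg⟩ := (a.frame.res (inf_le_left : a.V ⊓ b.V ≤ a.V)).exists_coord le_rfl
    (res L (inf_le_right : a.V ⊓ b.V ≤ b.V) b.l)
  obtain ⟨g', hg'⟩ := (b.frame.res (inf_le_right : a.V ⊓ b.V ≤ b.V)).exists_coord le_rfl
    (res L (inf_le_left : a.V ⊓ b.V ≤ a.V) a.l)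
  rw [res_self] at hg hg'
  have hgu : IsUnit g := IsUnit.of_mul_eq_one g' ((a.frame.res inf_le_left).coord_unique le_rfl
    (by rw [res_self, mul_comm, mul_smul, ← hg, ← hg', one_smul]))
  have ha := congrArg (resR ((f.fiberι η).preimage_mono (inf_le_left : a.V ⊓ b.V ≤ a.V))) a.eq
  have hb := congrArg (resR ((f.fiberι η).preimage_mono (inf_le_right : a.V ⊓ b.V ≤ b.V))) b.eq
  rw [map_mul, ← tval_res σ (inf_le_left : a.V ⊓ b.V ≤ a.V), ← fiberι_app_res f η (inf_le_left : a.V ⊓ b.V ≤ a.V),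
    ← fiberι_app_res f η (inf_le_left : a.V ⊓ b.V ≤ a.V)] at ha
  rw [map_mul, ← tval_res σ (inf_le_right : a.V ⊓ b.V ≤ b.V), ← fiberι_app_res f η (inf_le_right : a.V ⊓ b.V ≤ b.V),
    ← fiberι_app_res f η (inf_le_right : a.V ⊓ b.V ≤ b.V), hg, tval_smul] at hb
  have hsec : resR (inf_le_right : a.V ⊓ b.V ≤ b.V) (f.appLE W b.V b.le b.d) * resR (inf_le_left : a.V ⊓ b.V ≤ a.V) a.c =
      resR (inf_le_left : a.V ⊓ b.V ≤ a.V) (f.appLE W a.V a.le a.d) * (resR (inf_le_right : a.V ⊓ b.V ≤ b.V) b.c * g) := by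
    refine eq_of_fibre f hη (O := a.V ⊓ b.V) (fun z hz => hspec _ (a.le hz.1)) (fun z _ => hdom _) ?_
    refine (isUnit_tval σ (a.frame.res (inf_le_left : a.V ⊓ b.V ≤ a.V))).mul_right_cancel ?_
    rw [map_mul, map_mul, map_mul, mul_assoc, mul_assoc, ha, mul_assoc, hb]
    ring
  have hgerm := congrArg (X.presheaf.germ (a.V ⊓ b.V) x ⟨hxa, hxb⟩) hsec
  rw [map_mul, map_mul, map_mul, InvX.germ_resR', InvX.germ_resR', InvX.germ_resR', InvX.germ_resR',
    germ_appLE, germ_appLE, ← mul_assoc] at hgerm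
  rw [hgerm, Ideal.span_singleton_mul_right_unit (hgu.map _)]

end Groth.Agent.Div86.Descend
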