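import Groth.Agent.Div86.Descend.NoEmbedded
import Groth.Agent.MeroX.EffCartier
import Groth.Agent.DivX.CodimOne
import Mathlib.RingTheory.UniqueFactorizationDomain.Basic
import Mathlib.AlgebraicGeometry.IdealSheaf.Subscheme

/-!
# Unmixed subschemes of codimension one in locally factorial schemes
-/

set_option autoImplicit false
set_option linter.style.haveILetI false
set_option backward.isDefEq.respectTransparency false
set_option backward.isDefEq.respectTransparency.types false

universe u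

open CategoryTheory CategoryTheory.Limits AlgebraicGeometry TopologicalSpace IsLocalRing

namespace Groth.Agent.Div86.Descend

/-- Sections of a closed immersion on an affine open are quotients. -/
theorem surjective_app_restrict {Z P : Scheme.{u}} (i : Z ⟶ P) (W : P.Opens)
    (hW : IsAffineOpen W) [IsClosedImmersion (i ∣_ W)] :
    IsAffineOpen (i ⁻¹ᵁ W) ∧ Function.Surjective (i.app W) := by
  haveI : IsAffine W.toScheme := hW
  obtain ⟨h₁, h₂⟩ := IsClosedImmersion.isAffine_surjective_of_isAffine (i ∣_ W)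
  refine ⟨h₁, ?_⟩
  rw [Scheme.Hom.appTop, morphismRestrict_app] at h₂
  have h3 : Function.Surjective (i.app (W.ι ''ᵁ ⊤)) := fun y => by
    obtain ⟨a, ha⟩ := h₂ (Z.presheaf.map (eqToHom (image_morphismRestrict_preimage i W ⊤)).op y)
    exact ⟨a, (ConcreteCategory.bijective_of_isIso _).1 ha⟩
  have key : ∀ W' : P.Opens, W' = W → Function.Surjective (i.app W') → Function.Surjective (i.app W) := by
    rintro W' rfl h
    exact h
  exact key _ W.ι_image_top h3

/-- The kernel of the map of local rings of an immersion. -/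
theorem ker_stalkMap_eq_map {Z X : Scheme.{u}} (i : Z ⟶ X) {U : X.Opens} (hU : IsAffineOpen U)
    [IsClosedImmersion (i ∣_ U)] (z : Z) (hz : i z ∈ U) :
    RingHom.ker (i.stalkMap z).hom =
      (RingHom.ker (i.app U).hom).map (X.presheaf.germ U (i z) hz).hom := by
  obtain ⟨hV, hs⟩ := surjective_app_restrict i U hU
  let φ : Γ(X, U) →+* Γ(Z, i ⁻¹ᵁ U) := (i.app U).hom
  letI : Algebra Γ(X, U) (X.presheaf.stalk (i z)) := (X.presheaf.germ U (i z) hz).hom.toAlgebra
  letI : Algebra Γ(Z, i ⁻¹ᵁ U) (Z.presheaf.stalk z) := (Z.presheaf.germ (i ⁻¹ᵁ U) z hz).hom.toAlgebra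
  haveI hX : IsLocalization.AtPrime (X.presheaf.stalk (i z)) (hU.primeIdealOf ⟨i z, hz⟩).asIdeal :=
    hU.isLocalization_stalk ⟨i z, hz⟩
  haveI hZ : IsLocalization.AtPrime (Z.presheaf.stalk z) (hV.primeIdealOf ⟨z, hz⟩).asIdeal :=
    hV.isLocalization_stalk ⟨z, hz⟩
  have hcomap : (hU.primeIdealOf ⟨i z, hz⟩).asIdeal = (hV.primeIdealOf ⟨z, hz⟩).asIdeal.comap φ := by
    have hc := congrArg PrimeSpectrum.asIdeal
      (IsAffineOpen.comap_primeIdealOf_appLE (f := i) U hU (i ⁻¹ᵁ U) hV le_rfl hz)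
    rw [← hc, PrimeSpectrum.comap_asIdeal, ← Scheme.Hom.app_eq_appLE]
  have hf : ∀ a : Γ(X, U), (i.stalkMap z).hom (algebraMap _ _ a) = algebraMap _ _ (φ a) := fun a =>
    Scheme.Hom.germ_stalkMap_apply i U z hz a
  have hM : Submonoid.map φ (hU.primeIdealOf ⟨i z, hz⟩).asIdeal.primeCompl =
      (hV.primeIdealOf ⟨z, hz⟩).asIdeal.primeCompl := by
    ext b
    constructor
    · rintro ⟨a, ha, rfl⟩ hb
      exact ha (by rw [hcomap]; exact hb)
    · intro hb
      obtain ⟨a, rfl⟩ := hs b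
      exact ⟨a, fun h => hb (by rw [hcomap] at h; exact h), rfl⟩
  have hfm : (i.stalkMap z).hom = IsLocalization.map (Z.presheaf.stalk z) φ
      (show (hU.primeIdealOf ⟨i z, hz⟩).asIdeal.primeCompl ≤
        (hV.primeIdealOf ⟨z, hz⟩).asIdeal.primeCompl.comap φ from
        Submonoid.map_le_iff_le_comap.1 hM.le) := by
    refine IsLocalization.ringHom_ext (hU.primeIdealOf ⟨i z, hz⟩).asIdeal.primeCompl (RingHom.ext fun a => ?_)
    rw [RingHom.comp_apply, RingHom.comp_apply, IsLocalization.map_eq]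
    exact hf a
  rw [hfm]
  exact IsLocalization.ker_map (Z.presheaf.stalk z) φ hM

theorem stI_eq_ker {X : Scheme.{u}} (I : X.IdealSheafData) (z : I.subscheme) :
    stI I (I.subschemeι z) = RingHom.ker (I.subschemeι.stalkMap z).hom := by
  obtain ⟨U, hU, hxU, -⟩ := exists_isAffineOpen_mem_and_subset (x := I.subschemeι z) (U := ⊤) trivial
  haveI : IsClosedImmersion (I.subschemeι ∣_ U) :=
    IsZariskiLocalAtTarget.restrict (inferInstanceAs (IsClosedImmersion I.subschemeι)) U
  rw [stI_eq I ⟨U, hU⟩ hxU, ker_stalkMap_eq_map I.subschemeι hU z hxU]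
  congr 1
  exact (Scheme.IdealSheafData.ker_subschemeι_app I ⟨U, hU⟩).symm

/-- An ideal whose associated primes are principal is principal in a factorial ring. -/
theorem exists_gen_of_ass {B : Type u} [CommRing B] [IsDomain B] [IsNoetherianRing B] [UniqueFactorizationMonoid B]
    (I : Ideal B) (hI : I ≠ ⊤) (hP : ∀ P ∈ associatedPrimes B (B ⧸ I), ∃ π, Prime π ∧ P = Ideal.span {π}) :
    ∃ g, g ≠ 0 ∧ I = Ideal.span {g} := by
  classical
  haveI : Nontrivial (B ⧸ I) := Ideal.Quotient.nontrivial_iff.2 hI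
  have hann : ∀ P ∈ associatedPrimes B (B ⧸ I), ∃ m : B, ∀ t, t ∈ P ↔ t * m ∈ I := by
    intro P h
    obtain ⟨-, m, hm⟩ := Alg6.mem_ass_iff.1 h
    obtain ⟨m, rfl⟩ := Submodule.Quotient.mk_surjective _ m
    exact ⟨m, fun t => by rw [hm t, ← Submodule.Quotient.mk_smul, Submodule.Quotient.mk_eq_zero, smul_eq_mul]⟩
  have hne : I ≠ ⊥ := fun h0 => by
    obtain ⟨P, h⟩ := associatedPrimes.nonempty B (B ⧸ I)
    obtain ⟨π, hπ, rfl⟩ := hP P h
    obtain ⟨m, hm⟩ := hann _ h
    rcases eq_or_ne m 0 with rfl | hm0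
    · exact hπ.not_unit (Ideal.span_singleton_eq_top.1 ((Ideal.eq_top_iff_one _).2 ((hm 1).2 (by simp))))
    · have := (hm π).1 (Ideal.mem_span_singleton_self π)
      rw [h0, Ideal.mem_bot] at this
      exact mul_ne_zero hπ.ne_zero hm0 this
  obtain ⟨y₀, hy₀, hy₀0⟩ := Submodule.exists_mem_ne_zero_of_ne_bot hne
  have hfin : (associatedPrimes B (B ⧸ I)).Finite := associatedPrimes.finite B (B ⧸ I)
  let S := hfin.toFinset
  choose! π hπ hPπ using hP
  -- the order of the ideal at each associated prime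
  have hord : ∀ P ∈ S, ∃ k, (∀ y ∈ I, π P ^ k ∣ y) ∧ ∃ t ∉ P, t * π P ^ k ∈ I := by
    intro P hPS
    have hP' := hfin.mem_toFinset.1 hPS
    have hex : ∃ k, ∃ t ∉ P, t * π P ^ k ∈ I := by
      obtain ⟨k, t, ht, he⟩ := WfDvdMonoid.max_power_factor hy₀0 (hπ P hP').irreducible
      exact ⟨k, t, fun htP => ht (by rw [hPπ P hP'] at htP; exact Ideal.mem_span_singleton.1 htP),
        by rw [mul_comm, ← he]; exact hy₀⟩
    refine ⟨Nat.find hex, fun y hy => ?_, Nat.find_spec hex⟩
    rcases eq_or_ne y 0 with rfl | hy0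
    · exact dvd_zero _
    obtain ⟨j, t, ht, rfl⟩ := WfDvdMonoid.max_power_factor hy0 (hπ P hP').irreducible
    exact (pow_dvd_pow _ (Nat.find_min' hex ⟨t, fun htP => ht (by
      rw [hPπ P hP'] at htP; exact Ideal.mem_span_singleton.1 htP), by rw [mul_comm]; exact hy⟩)).trans
      (dvd_mul_right _ _)
  choose! k hk hkt using hord
  refine ⟨∏ P ∈ S, π P ^ k P, Finset.prod_ne_zero_iff.2 fun P hPS => pow_ne_zero _
    (hπ P (hfin.mem_toFinset.1 hPS)).ne_zero, le_antisymm (fun y hy => Ideal.mem_span_singleton.2 ?_) ?_⟩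
  · refine Finset.prod_dvd_of_isRelPrime (fun P hP₁ Q hQ₁ hne => ?_) fun P hPS => hk P hPS y hy
    refine IsRelPrime.pow ?_
    refine (hπ P (hfin.mem_toFinset.1 hP₁)).irreducible.isRelPrime_iff_not_dvd.2 fun hdvd => hne ?_
    rw [hPπ P (hfin.mem_toFinset.1 hP₁), hPπ Q (hfin.mem_toFinset.1 hQ₁)]
    exact Ideal.span_singleton_eq_span_singleton.2 ((hπ P (hfin.mem_toFinset.1 hP₁)).irreducible.associated_of_dvd
      (hπ Q (hfin.mem_toFinset.1 hQ₁)).irreducible hdvd)
  · rw [Ideal.span_singleton_le_iff_mem]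
    by_contra hg
    obtain ⟨P, hP', hle⟩ := exists_le_isAssociatedPrime_of_isNoetherianRing B
      (Submodule.Quotient.mk (∏ P ∈ S, π P ^ k P) : B ⧸ I)
      (fun h => hg ((Submodule.Quotient.mk_eq_zero _).1 h))
    have hPS : P ∈ S := hfin.mem_toFinset.2 hP'
    obtain ⟨t, ht, htI⟩ := hkt P hPS
    refine ht (hle ?_)
    rw [Submodule.mem_colon_singleton, ← Submodule.Quotient.mk_smul, Submodule.mem_bot,
      Submodule.Quotient.mk_eq_zero, smul_eq_mul]
    obtain ⟨e, he⟩ := Finset.dvd_prod_of_mem (fun P => π P ^ k P) hPS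
    rw [he, ← mul_assoc]
    exact Ideal.mul_mem_right _ _ htI

theorem isEffCartier_of_unmixed {X : Scheme.{u}} [IsLocallyNoetherian X] (I : X.IdealSheafData)
    (h1 : ∀ z : ↥I.subscheme, IsAssociatedPrime (maximalIdeal (I.subscheme.presheaf.stalk z))
      (I.subscheme.presheaf.stalk z) → ∀ z' : ↥I.subscheme, z' ⤳ z → z' = z)
    (h2 : ∀ z : ↥I.subscheme, (∀ z' : ↥I.subscheme, z' ⤳ z → z' = z) →
      ringKrullDim (X.presheaf.stalk (I.subschemeι z)) = 1)
    (h3 : ∀ x : X, x ∈ I.support → IsDomain (X.presheaf.stalk x) ∧ UniqueFactorizationMonoid (X.presheaf.stalk x)) :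
    BlowUp.IsEffCartierIdeal I := by
  refine MeroX.isEffCartier_of_stalk I fun x hx U hxU => ?_
  rw [← stI_eq I U hxU]
  haveI := (h3 x hx).1
  haveI := (h3 x hx).2
  obtain ⟨d, rfl⟩ : x ∈ Set.range I.subschemeι := by rw [Scheme.IdealSheafData.range_subschemeι]; exact hx
  suffices hP' : ∀ P ∈ associatedPrimes (X.presheaf.stalk (I.subschemeι d))
      (X.presheaf.stalk (I.subschemeι d) ⧸ stI I (I.subschemeι d)), ∃ π, Prime π ∧ P = Ideal.span {π} by
    obtain ⟨g, hg, he⟩ := exists_gen_of_ass (stI I (I.subschemeι d))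
      (by rw [stI_eq_ker]; exact RingHom.ker_ne_top _) hP'
    exact ⟨g, mem_nonZeroDivisors_of_ne_zero hg, he⟩
  intro P hP
  haveI := hP.isPrime
  obtain ⟨m, hm⟩ : ∃ m, ∀ t, t ∈ P ↔ t * m ∈ stI I (I.subschemeι d) := by
    obtain ⟨-, m, hm⟩ := Alg6.mem_ass_iff.1 hP
    obtain ⟨m, rfl⟩ := Submodule.Quotient.mk_surjective _ m
    exact ⟨m, fun t => by rw [hm t, ← Submodule.Quotient.mk_smul, Submodule.Quotient.mk_eq_zero, smul_eq_mul]⟩
  obtain ⟨z, hz, hcomap⟩ := exists_point_of_prime (I.subschemeι d) P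
  obtain ⟨S, hS⟩ := VarGeom.exists_isLocalization_stalkSpecializes hz
  letI := (X.presheaf.stalkSpecializes hz).hom.toAlgebra
  haveI : IsLocalization S (X.presheaf.stalk z) := hS
  have hIz : stI I z = (stI I (I.subschemeι d)).map (algebraMap (X.presheaf.stalk (I.subschemeι d)) (X.presheaf.stalk z)) :=
    stI_specializes I hz
  have hSP : ∀ s ∈ S, s ∉ P := fun s hs hsP => by
    rw [← hcomap, Ideal.mem_comap] at hsP
    exact hsP (IsLocalization.map_units (X.presheaf.stalk z) (⟨s, hs⟩ : S))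
  have hzI : z ∈ I.support := by
    by_contra hzn
    have h := stI_eq_top hzn
    rw [hIz, Ideal.eq_top_iff_one, ← map_one (algebraMap (X.presheaf.stalk (I.subschemeι d)) (X.presheaf.stalk z)),
      IsLocalization.algebraMap_mem_map_algebraMap_iff S] at h
    obtain ⟨s, hs, hs1⟩ := h
    rw [mul_one] at hs1
    exact hSP s hs ((hm s).2 (Ideal.mul_mem_right _ _ hs1))
  obtain ⟨d', rfl⟩ : z ∈ Set.range I.subschemeι := by rw [Scheme.IdealSheafData.range_subschemeι]; exact hzI
  have hass : IsAssociatedPrime (maximalIdeal (I.subscheme.presheaf.stalk d')) (I.subscheme.presheaf.stalk d') := by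
    haveI : IsNoetherianRing (I.subscheme.presheaf.stalk d') :=
      isNoetherianRing_of_surjective _ _ (I.subschemeι.stalkMap d').hom (I.subschemeι.stalkMap_surjective d')
    refine Alg6.mem_ass_iff.2 ⟨(maximalIdeal.isMaximal _).isPrime, (I.subschemeι.stalkMap d').hom
      (algebraMap (X.presheaf.stalk (I.subschemeι d)) (X.presheaf.stalk (I.subschemeι d')) m), fun t => ?_⟩
    obtain ⟨t, rfl⟩ := I.subschemeι.stalkMap_surjective d' t
    obtain ⟨a, s, rfl⟩ := IsLocalization.exists_mk'_eq S t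
    have hst := IsLocalization.mk'_spec (X.presheaf.stalk (I.subschemeι d')) a s
    have hu := IsLocalization.map_units (X.presheaf.stalk (I.subschemeι d')) s
    have h1 : (I.subschemeι.stalkMap d').hom (IsLocalization.mk' (X.presheaf.stalk (I.subschemeι d')) a s) ∈
        maximalIdeal _ ↔ a ∈ P := by
      rw [← hcomap, Ideal.mem_comap]
      show ¬ IsUnit _ ↔ ¬ IsUnit (algebraMap _ (X.presheaf.stalk (I.subschemeι d')) a)
      rw [← hst, IsUnit.mul_iff]
      exact not_congr ⟨fun h => ⟨isUnit_of_map_unit (I.subschemeι.stalkMap d').hom _ h, hu⟩, fun h => h.1.map _⟩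
    rw [h1, smul_eq_mul, ← map_mul, ← RingHom.mem_ker, ← stI_eq_ker, hIz]
    rw [show IsLocalization.mk' (X.presheaf.stalk (I.subschemeι d')) a s *
        algebraMap (X.presheaf.stalk (I.subschemeι d)) (X.presheaf.stalk (I.subschemeι d')) m =
        IsLocalization.mk' (X.presheaf.stalk (I.subschemeι d')) (a * m) s by
      rw [mul_comm, IsLocalization.mul_mk'_eq_mk'_of_mul, mul_comm m],
      IsLocalization.mk'_mem_map_algebraMap_iff]
    exact ⟨fun ha => ⟨1, S.one_mem, by rw [one_mul]; exact (hm a).1 ha⟩, fun ⟨u, hu', hua⟩ =>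
      (hP.isPrime.mem_or_mem ((hm (u * a)).2 (by rw [mul_assoc]; exact hua))).resolve_left (hSP u hu')⟩
  have hh : P.height = 1 := by
    have h := h2 d' (h1 d' hass)
    rw [← IsLocalRing.maximalIdeal_height_eq_ringKrullDim, ← IsLocalization.height_under S] at h
    rw [show P = (maximalIdeal (X.presheaf.stalk (I.subschemeι d'))).under (X.presheaf.stalk (I.subschemeι d)) from hcomap.symm]
    exact_mod_cast h
  exact DivX.exists_prime_span_of_height_one P hh

end Groth.Agent.Div86.Descend
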